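import Cfsg.Agent.GraphTwistSub.Main
import Cfsg.Agent.GraphTwistAut.Cases

/-!
# The rational points of `³D₄(q)` are maximal

If an overgroup contains a moved element `x` of the top short orbit it contains the element of
the same orbit with parameter `x ^ #`, read off from the conjugate of `X_a(x)` by `X_b(1)`.
-/

set_option autoImplicit false
set_option maxHeartbeats 400000

namespace CfsgLib.GraphTwist

open Cfsg.Lie CfsgLib.Chevalley CfsgLib.Twisted
open scoped MatrixGroups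

/-- The certificates for `³D₄`. -/
def subDataD4 : SubData where
  b := 1
  top := 23
  gam := 22
  wJ := [0]
  w2 := [1, 0]
  pS := 3
  sn := 0
  step := [(0, 1, 2, 15), (2, 0, 3, 17)]
  refl := [(0, false, [], 15), (0, true, [0], 17)]
  trans := [(0, false, [1, 0]), (0, true, [0, 1, 0])]

set_option maxHeartbeats 2000000 in
theorem subValidD4 : cfgD4.SubValid subDataD4 where
  basic := by decide +kernel
  central := by decide +kernel
  ideal := by decide +kernel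
  stable := by decide +kernel
  noncomm := by decide +kernel
  gamma := by decide +kernel
  gammaTop := by decide +kernel
  gammaNeg := by decide +kernel
  wordJ := by decide +kernel
  word2 := by decide +kernel
  lower := by decide +kernel
  top := by decide +kernel
  topShort := by decide +kernel
  steps := by decide +kernel
  refls := by decide +kernel
  transs := by decide +kernel
  scale := by decide +kernel

/-- The orbit of the three outer nodes. -/
abbrev nodeA : Fin setupD4.cfg.m := ⟨0, by decide⟩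

/-- The orbit of the middle node. -/
abbrev nodeB : Fin setupD4.cfg.m := ⟨1, by decide⟩

/-- The short root of the fundamental orbit. -/
abbrev rootA : Root chevD4 := setupD4.spR nodeA

/-- The middle fundamental root. -/
abbrev rootB : Root chevD4 := setupD4.spR nodeB

/-- The sum of the two. -/
abbrev rootAB : Root chevD4 := setupD4.wR nodeB rootA

/-- The root at which the coordinate is read. -/
abbrev rootZ : Root chevD4 := (setupD4.σR ^ 2) (setupD4.rsR subValidD4)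

/-- The facts about these roots. -/
theorem rootsD4 :
    setupD4.σR rootA ≠ rootA ∧ setupD4.σR rootAB ≠ rootAB ∧
    setupD4.σR rootB = rootB ∧ setupD4.σR (setupD4.rsR subValidD4) ≠ setupD4.rsR subValidD4 ∧
    rootA ∈ setupD4.orb (setupD4.wP [nodeB, nodeA] (setupD4.rsR subValidD4)) ∧
    chevD4.commTerms rootA rootB = [((rootAB : ℕ), -1, 1, 1)] ∧
    chevD4.commTerms rootAB rootB = [] ∧ rootB ≠ rootA ∧ rootB ≠ rootA.rev ∧
    rootB ≠ rootAB.rev ∧
    ((setupD4.cfg.nodes.getD 1 []).map fun i => chevD4.cartan i (rootA : ℕ)).sum = -1 ∧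
    (∀ i j : Fin 3, i < j → setupD4.cfg.chkPair 3
      (((setupD4.σR ^ (i : ℕ)) rootAB : Root chevD4) : ℕ)
      (((setupD4.σR ^ (j : ℕ)) rootA : Root chevD4) : ℕ) = true) ∧
    setupD4.cfg.coef (rootAB : ℕ) (setupD4.σR rootA : Root chevD4) (rootZ : ℕ) = -1 ∧
    setupD4.cfg.coef (rootAB : ℕ) ((setupD4.σR ^ 2) rootA : Root chevD4) (rootZ : ℕ) = 0 ∧
    setupD4.cfg.coef (setupD4.σR rootAB : Root chevD4) ((setupD4.σR ^ 2) rootA : Root chevD4)
      (rootZ : ℕ) = 0 ∧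
    half chevD4 ≤ (rootAB : ℕ) := by
  decide +kernel

variable {K : Type*} [Field K] [Finite K] (Φ : FieldTwist setupD4 K)

theorem oX_three {r : Root chevD4} (h : setupD4.σR r ≠ r) (t : K) :
    Φ.oX r t = X setupD4.good.good r t * Φ.Ψ (X setupD4.good.good r t) *
      Φ.Ψ (Φ.Ψ (X setupD4.good.good r t)) := by
  rw [FieldTwist.oX, setupD4.osize_eq, if_neg h]
  show ((List.range 3).map fun j => (Φ.Ψ ^ j) (X setupD4.good.good r t)).prod = _
  simp [List.range_succ, pow_succ', mul_assoc]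

/-- With `X_a(w)` the overgroup contains an element of the top short orbit with parameter
`w f(w)`, rotated. -/
theorem mem_of_oX_rootA {H : Subgroup (GL chevD4.Idx K)} (hM : Φ.subM ≤ H) (hHG : H ≤ Φ.tG)
    {w : K} (hw : Φ.oX rootA w ∈ H) :
    ∃ s e : K, Φ.f e = e ∧ e ≠ 0 ∧ Φ.oX (setupD4.rsR subValidD4) s ∈ H ∧
      Φ.f (Φ.f s) = e * (w * Φ.f w) := by
  obtain ⟨hσA, hσAB, hσB, hσrs, -, hterm, hbc, hne1, hne2, hne3, hexp, hchk, hc01, hc02, hc12,
    hABpos⟩ := rootsD4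
  have hθ := setupD4_faithful
  have hApos : half chevD4 ≤ (rootA : ℕ) := setupD4.spR_pos _
  set G := X setupD4.good.good rootB (1 : K) with hG
  have hGM : G ∈ Φ.subM := Φ.X_mem_subM hθ hσB (map_one _)
  have hGfix : Φ.Ψ G = G := Φ.Ψ_X_fixed hσB (map_one _)
  set X0 := X setupD4.good.good rootA w with hX0
  set Y0 := X setupD4.good.good rootAB w with hY0
  have hcomm : G * X0 * G⁻¹ = X0 * Y0 := by
    have h := setupD4.comm_single hne1 hne2 hterm w (1 : K)
    rw [show ((-1 : ℤ) : K) * -w * 1 = w by simp] at h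
    have hc : Commute Y0 G := setupD4.commute_X (Or.inr ⟨hne3, hbc⟩) w 1
    rw [hX0, hY0, hG] at *
    calc X setupD4.good.good rootB 1 * X setupD4.good.good rootA w * (X setupD4.good.good rootB (1 : K))⁻¹
        = X setupD4.good.good rootA w * (X setupD4.good.good rootB 1 *
            ((X setupD4.good.good rootB (1 : K))⁻¹ * (X setupD4.good.good rootA w)⁻¹ *
              X setupD4.good.good rootB 1 * X setupD4.good.good rootA w) *
            (X setupD4.good.good rootB (1 : K))⁻¹) := by group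
      _ = _ := by rw [h, ← hc.eq, mul_inv_cancel_right]
  set X1 := Φ.Ψ X0 with hX1
  set X2 := Φ.Ψ X1 with hX2
  set Y1 := Φ.Ψ Y0 with hY1
  set Y2 := Φ.Ψ Y1 with hY2
  have hc1 : G * X1 * G⁻¹ = X1 * Y1 := by
    rw [hX1, hY1, ← map_mul, ← hcomm, map_mul, map_mul, map_inv, hGfix]
  have hc2 : G * X2 * G⁻¹ = X2 * Y2 := by
    rw [hX2, hY2, ← map_mul, ← hc1, map_mul, map_mul, map_inv, hGfix]
  have hoA : Φ.oX rootA w = X0 * X1 * X2 := oX_three Φ hσA w
  have hoAB : Φ.oX rootAB w = Y0 * Y1 * Y2 := oX_three Φ hσAB w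
  have hY : Φ.oX rootAB w ∈ H := by
    obtain ⟨c, hc, hc0, htr⟩ := Φ.exists_conj_subM hθ (Φ.nO_mem_subM nodeB) (Φ.monBy_nO nodeB)
      rootA
    obtain ⟨-, e⟩ := htr (c⁻¹ * w) fun h => absurd h hσA
    rw [mul_inv_cancel_left₀ hc0] at e
    rw [← e]
    exact mul_mem (mul_mem (hM (Φ.nO_mem_subM nodeB))
      (Φ.oX_scale_mem hθ hM (o := nodeB) hexp (by norm_num) (by rw [map_inv₀, hc]) hw))
      (inv_mem (hM (Φ.nO_mem_subM nodeB)))
  set om := (X0 * X1 * X2)⁻¹ * (G * (X0 * X1 * X2) * G⁻¹) * (Y0 * Y1 * Y2)⁻¹ with hom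
  have homH : om ∈ H := by
    rw [hom, ← hoA, ← hoAB]
    exact mul_mem (mul_mem (inv_mem hw) (mul_mem (mul_mem (hM hGM) hw) (inv_mem (hM hGM))))
      (inv_mem hY)
  set Z01 := Y0⁻¹ * X1⁻¹ * Y0 * X1 with hZ01
  set Z02 := Y0⁻¹ * X2⁻¹ * Y0 * X2 with hZ02
  set Z12 := Y1⁻¹ * X2⁻¹ * Y1 * X2 with hZ12
  have hom' : om = Y0 * (Z02 * (X2⁻¹ * Z01 * X2) * (Y1 * Z12 * Y1⁻¹)) * Y0⁻¹ := by
    rw [hom, show G * (X0 * X1 * X2) * G⁻¹ = G * X0 * G⁻¹ * (G * X1 * G⁻¹) * (G * X2 * G⁻¹) by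
      group, hcomm, hc1, hc2, hZ01, hZ02, hZ12]
    group
  -- the commutators of the third layer
  have hX1e : X1 = X setupD4.good.good ((setupD4.σR ^ 1) rootA) (Φ.f w) := by
    have h := Φ.Ψ_pow_X 1 rootA w
    rw [(Φ.tw_side 1 (setupD4.head nodeA) w).1, pow_one] at h
    rw [hX1, hX0, pow_one]
    exact h
  have hX2e : X2 = X setupD4.good.good ((setupD4.σR ^ 2) rootA) (Φ.f (Φ.f w)) := by
    have h := Φ.Ψ_pow_X 2 rootA w
    rw [(Φ.tw_side 2 (setupD4.head nodeA) w).1] at h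
    rw [hX2, hX1, hX0]
    exact h
  have hY1e : ∃ u, Y1 = X setupD4.good.good ((setupD4.σR ^ 1) rootAB) u :=
    ⟨_, by rw [hY1, hY0, pow_one]; exact Φ.Ψ_X _ _⟩
  obtain ⟨u, hY1e⟩ := hY1e
  set i3 : Fin setupD4.norb := setupD4.pSI subValidD4
  have hrs : setupD4.rsR subValidD4 ∈ setupD4.orb (setupD4.rep i3) := setupD4.self_mem_orb _
  have hz : rootZ ∈ setupD4.orb (setupD4.rep i3) := setupD4.mem_orb_iff.2 ⟨2, rfl⟩
  have hpos : ∀ (j : ℕ) {r : Root chevD4}, half chevD4 ≤ (r : ℕ) →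
      half chevD4 ≤ ((setupD4.σR ^ j) r : ℕ) := fun j r hr => (setupD4.σR_pow_pos j r).2 hr
  have hA1 : X1 ∈ chevD4.posUnipotent K := hX1e ▸ X_mem_pos _ (hpos 1 hApos) _
  have hA2 : X2 ∈ chevD4.posUnipotent K := hX2e ▸ X_mem_pos _ (hpos 2 hApos) _
  have hB0 : Y0 ∈ chevD4.posUnipotent K := X_mem_pos _ hABpos _
  have hB1 : Y1 ∈ chevD4.posUnipotent K := hY1e ▸ X_mem_pos _ (hpos 1 hABpos) _
  have key : ∀ (a g : Root chevD4) (t v : K), half chevD4 ≤ (a : ℕ) → half chevD4 ≤ (g : ℕ) →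
      setupD4.cfg.chkPair 3 (a : ℕ) g = true →
      (X setupD4.good.good a t)⁻¹ * (X setupD4.good.good g v)⁻¹ * X setupD4.good.good a t * X setupD4.good.good g v ∈
          setupD4.uT K i3 ∧
        setupD4.κ i3 rootZ
          ((X setupD4.good.good a t)⁻¹ * (X setupD4.good.good g v)⁻¹ * X setupD4.good.good a t * X setupD4.good.good g v) =
          (setupD4.cfg.coef (a : ℕ) g (rootZ : ℕ) : K) * (-t) * (-v) := by
    intro a g t v ha hg hp
    rw [show (X setupD4.good.good a t)⁻¹ * (X setupD4.good.good g v)⁻¹ * X setupD4.good.good a t * X setupD4.good.good g v =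
      X setupD4.good.good a (-t) * X setupD4.good.good g (-v) * (X setupD4.good.good a (-t))⁻¹ *
        (X setupD4.good.good g (-v))⁻¹ by simp only [← X_inv, inv_inv]]
    exact ⟨setupD4.comm_X_mem ha hg hp _ _, setupD4.κ_comm_X hz ha hg hp _ _⟩
  obtain ⟨m01, k01⟩ := key _ _ w (Φ.f w) hABpos (hpos 1 hApos) (hchk 0 1 (by decide))
  obtain ⟨m02, k02⟩ := key _ _ w (Φ.f (Φ.f w)) hABpos (hpos 2 hApos) (hchk 0 2 (by decide))
  obtain ⟨m12, k12⟩ := key _ _ u (Φ.f (Φ.f w)) (hpos 1 hABpos) (hpos 2 hApos)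
    (hchk 1 2 (by decide))
  rw [← hY0, ← hX1e] at m01 k01
  rw [← hY0, ← hX2e] at m02 k02
  rw [← hY1e, ← hX2e] at m12 k12
  rw [← hZ01, pow_one, hc01] at k01
  rw [← hZ02, hc02] at k02
  rw [← hZ12, pow_one, hc12] at k12
  rw [← hZ01] at m01
  rw [← hZ02] at m02
  rw [← hZ12] at m12
  have hmid : X2⁻¹ * Z01 * X2 ∈ setupD4.uT K i3 := setupD4.conj_inv_uT hA2 m01
  have hlast : Y1 * Z12 * Y1⁻¹ ∈ setupD4.uT K i3 := setupD4.conj_uT hB1 m12
  have homT : om ∈ setupD4.uT K i3 :=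
    hom' ▸ setupD4.conj_uT hB0 (mul_mem (mul_mem m02 hmid) hlast)
  have homκ : setupD4.κ i3 rootZ om = -(w * Φ.f w) := by
    rw [hom', setupD4.κ_conj hz hB0 (mul_mem (mul_mem m02 hmid) hlast),
      setupD4.κ_mul hz (mul_mem m02 hmid) hlast, setupD4.κ_mul hz m02 hmid,
      show X2⁻¹ * Z01 * X2 = X2⁻¹ * Z01 * X2⁻¹⁻¹ by rw [inv_inv],
      setupD4.κ_conj hz (inv_mem hA2) m01, setupD4.κ_conj hz hB1 m12, k01, k02, k12]
    simp
  obtain ⟨s, hs, r, hr, hsplit⟩ :=
    Φ.exists_split_u1 i3 (g := om) ⟨homT, Φ.tG_le_fix (hHG homH)⟩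
  have hrM : r ∈ Φ.subM :=
    Φ.u1_le_subM_of_gt hθ subValidD4 (Nat.lt_succ_self _) hr
  have hsH : Φ.oX (setupD4.rep i3) s ∈ H := by
    have := mul_mem homH (inv_mem (hM hrM))
    rwa [hsplit, mul_inv_cancel_right] at this
  have hk : setupD4.κ i3 rootZ om = Φ.tw 2 (setupD4.rsR subValidD4) s := by
    rw [hsplit, setupD4.κ_mul hz (rootGen_mono _ (setupD4.orb_subset_tail (setupD4.rep_pos i3)
      (setupD4.orbPos_eq hrs).ge) (Φ.oX_mem_rootGen _ _)) (setupD4.uT_anti (Nat.le_succ _) hr.1),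
      setupD4.κ_tail hz hr.1, add_zero]
    refine Φ.κ_oX hrs (j := 2) ?_ s
    rw [setupD4.osize_eq, if_neg hσrs]
    decide
  obtain ⟨e, he, htw⟩ := Φ.exists_tw_sign 2 (setupD4.rsR subValidD4)
  rw [homκ, htw] at hk
  refine ⟨s, -e, ?_, ?_, hsH, ?_⟩
  · rcases he with rfl | rfl <;> simp
  · rcases he with rfl | rfl <;> simp
  · have h2 : Φ.f^[2] s = Φ.f (Φ.f s) := rfl
    rw [h2] at hk
    rcases he with rfl | rfl
    · linear_combination -hk
    · linear_combination hk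

/-- A moved element of the top short orbit brings the whole orbit. -/
theorem spanD4 {q : ℕ} (hfix : Nat.card {x : K // Φ.f x = x} = q)
    (hK : Nat.card K = q ^ 3) {H : Subgroup (GL chevD4.Idx K)} (hM : Φ.subM ≤ H)
    (hHG : H ≤ Φ.tG) {x : K} (hx : Φ.f x ≠ x)
    (hxH : Φ.oX (setupD4.rsR subValidD4) x ∈ H) :
    ∀ y, Φ.oX (setupD4.rsR subValidD4) y ∈ H := by
  have hθ := setupD4_faithful
  set P : K → Prop := fun y => Φ.oX (setupD4.rsR subValidD4) y ∈ H
  have hadd : ∀ a b, P a → P b → P (a + b) := fun a b ha hb => by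
    show Φ.oX _ _ ∈ H
    rw [← Φ.oX_mul]; exact mul_mem ha hb
  have hsmul : ∀ l a, Φ.f l = l → P a → P (l * a) := fun l a hl ha =>
    Φ.rsR_scale_mem hθ subValidD4 hM hl ha
  have h1 : P 1 := hM (Φ.oX_mem_subM hθ _ (map_one Φ.f))
  have hconst : ∀ c, Φ.f c = c → P c := fun c hc => by simpa using hsmul c 1 hc h1
  have hsub : ∀ a b, P a → P b → P (a - b) := fun a b ha hb => by
    have := hadd a _ ha (hsmul (-1) b (by simp) hb)
    rwa [show a + -1 * b = a - b by ring] at this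
  obtain ⟨-, -, -, hσrs, horb, -⟩ := rootsD4
  obtain ⟨l, c, hc, hc0, htr⟩ := Φ.exists_transport hθ (Φ.nW_mem_subM [nodeB, nodeA])
    (Φ.monBy_nW [nodeB, nodeA]) horb
  have hper : ∀ z : K, Φ.f (Φ.f (Φ.f z)) = z := fun z => Φ.periodic z
  set m := 4 + l
  have hquad : ∀ y, P y → P (Φ.f^[m] (y * Φ.f y)) := by
    intro y hy
    obtain ⟨-, e1⟩ := htr (c⁻¹ * y) fun h => absurd h hσrs
    have hA : Φ.oX rootA (Φ.f^[l] y) ∈ H := by
      have := mul_mem (mul_mem (hM (Φ.nW_mem_subM [nodeB, nodeA]))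
        (hsmul c⁻¹ y (by rw [map_inv₀, hc]) hy)) (inv_mem (hM (Φ.nW_mem_subM [nodeB, nodeA])))
      rw [e1, iterate_map_mul, Function.iterate_fixed (show Φ.f c⁻¹ = c⁻¹ by rw [map_inv₀, hc]),
        mul_inv_cancel_left₀ hc0] at this
      exact this
    obtain ⟨s, e, he, he0, hs, hse⟩ := mem_of_oX_rootA Φ hM hHG hA
    have h2 : s = e * Φ.f^[m] (y * Φ.f y) := by
      have h3 : Φ.f (Φ.f (Φ.f (Φ.f (Φ.f (Φ.f s))))) = s := by rw [hper, hper]
      rw [← h3, hse]
      simp only [map_mul, he, iterate_map_mul, m, Function.iterate_add_apply,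
        Function.iterate_succ_apply', Function.iterate_zero_apply]
      rw [← Function.iterate_succ_apply' Φ.f l y, Function.iterate_succ_apply]
    have := hsmul e⁻¹ s (by rw [map_inv₀, he]) hs
    rwa [h2, inv_mul_cancel_left₀ he0] at this
  have hrot : ∀ y, P y → P (Φ.f^[m + 2] y) := by
    intro y hy
    have h3 := hsub _ _ (hsub _ _ (hquad (y + 1) (hadd y 1 hy h1)) (hquad y hy)) h1
    have e : Φ.f^[m] ((y + 1) * Φ.f (y + 1)) - Φ.f^[m] (y * Φ.f y) - 1 =
        Φ.f^[m] (y + Φ.f y + Φ.f (Φ.f y)) - Φ.f^[m + 2] y := by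
      rw [show Φ.f^[m + 2] y = Φ.f^[m] (Φ.f (Φ.f y)) from Function.iterate_add_apply Φ.f m 2 y,
        map_add, map_one, show (y + 1) * (Φ.f y + 1) = y * Φ.f y + (y + Φ.f y) + 1 by ring,
        iterate_map_add, iterate_map_add _ _ (y * Φ.f y), iterate_map_one,
        iterate_map_add _ _ (y + Φ.f y)]
      ring
    rw [e] at h3
    have hT : Φ.f (y + Φ.f y + Φ.f (Φ.f y)) = y + Φ.f y + Φ.f (Φ.f y) := by
      rw [map_add, map_add, hper]; ring
    rw [Function.iterate_fixed hT] at h3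
    have := hsub _ _ (hconst _ hT) h3
    rwa [sub_sub_cancel] at this
  have hsharp : P (Φ.f x * Φ.f (Φ.f x)) := by
    have h4 := hrot _ (hrot _ (hquad x hxH))
    rw [← Function.iterate_add_apply, ← Function.iterate_add_apply,
      show m + 2 + (m + 2) + m = 3 * (m + 1) + 1 by ring, Function.iterate_add_apply,
      Function.iterate_mul, show Φ.f^[3] = (id : K → K) from funext hper, Function.iterate_id,
      id, Function.iterate_one, map_mul] at h4
    exact h4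
  refine Φ.all_of_cubic hfix hK rfl hadd hsmul h1 hx hxH ?_
  have hT : Φ.f (x + Φ.f x + Φ.f (Φ.f x)) = x + Φ.f x + Φ.f (Φ.f x) := by
    rw [map_add, map_add, hper]; ring
  have hS : Φ.f (x * Φ.f x + x * Φ.f (Φ.f x) + Φ.f x * Φ.f (Φ.f x)) =
      x * Φ.f x + x * Φ.f (Φ.f x) + Φ.f x * Φ.f (Φ.f x) := by
    rw [map_add, map_add, map_mul, map_mul, map_mul, hper]; ring
  rw [show x * x = Φ.f x * Φ.f (Φ.f x) + (x + Φ.f x + Φ.f (Φ.f x)) * x -
    (x * Φ.f x + x * Φ.f (Φ.f x) + Φ.f x * Φ.f (Φ.f x)) by ring]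
  exact hsub _ _ (hadd _ _ hsharp (hsmul _ _ hT hxH)) (hconst _ hS)

omit [Finite K] in
theorem twistedD4_subfield_maximal [Fintype K] {p q : ℕ} [Fact p.Prime]
    (hq : ∃ a : ℕ, 1 ≤ a ∧ q = p ^ a) (hK : Fintype.card K = q ^ 3)
    (M : Subgroup (GL chevD4.Idx K))
    (hM : ∀ g : GL chevD4.Idx K, g ∈ M ↔ g ∈ twistedD4 K q ∧ ∀ i j : chevD4.Idx,
      ((g : Matrix chevD4.Idx chevD4.Idx K) i j) ^ q = (g : Matrix chevD4.Idx chevD4.Idx K) i j) :
    M ≠ twistedD4 K q ∧ ∀ H : Subgroup (GL chevD4.Idx K),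
      M ≤ H → H ≤ twistedD4 K q → H = M ∨ H = twistedD4 K q := by
  obtain ⟨a, ha, rfl⟩ := hq
  have hqp : IsPrimePow (p ^ a) :=
    (Nat.Prime.isPrimePow (Fact.out : p.Prime)).pow (by omega)
  obtain ⟨Φ, e, hF, hfix, hK', -⟩ := twistedD4_eq_tG hqp hK
  exact FieldTwist.maximal_of_eq Φ hF e hM
    (Φ.subM_maximal setupD4_faithful cfgD4_autValid subValidD4
      (Φ.exists_moved hqp.two_le (by decide) hfix hK')
      fun H hH hHG x hx hxH => spanD4 Φ hfix hK' hH hHG hx hxH)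

end CfsgLib.GraphTwist
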