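import Cfsg.Agent.GraphTwistSub.Main
import Cfsg.Agent.GraphTwistAut.Cases

/-!
# The rational points of `²E₆(q)` are maximal
-/

set_option autoImplicit false
set_option maxHeartbeats 400000

namespace CfsgLib.GraphTwist

open Cfsg.Lie CfsgLib.Chevalley
open scoped MatrixGroups

/-- The certificates for `²E₆`. -/
def subDataE6 : SubData where
  b := 3
  top := 71
  gam := 70
  wJ := [2, 1, 2, 0, 1, 2]
  w2 := [3, 2, 1, 2, 0, 1, 2]
  pS := 20
  sn := 0
  step := [(0, 1, 4, 38), (1, 2, 5, 40), (4, 2, 7, 41), (5, 0, 7, 41), (7, 1, 10, 45),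
    (9, 0, 11, 49), (10, 3, 13, 52), (11, 1, 13, 52), (13, 2, 16, 54), (16, 1, 18, 55),
    (18, 0, 20, 66)]
  refl := [(0, false, [1, 2], 52), (0, true, [0, 1, 2], 52), (1, false, [2], 48),
    (1, true, [1, 2], 48)]
  trans := [(0, false, [1, 2, 3, 1, 2, 1, 0]), (0, true, [0, 1, 2, 3, 1, 2, 1, 0]),
    (1, false, [2, 3, 0, 1, 2, 1, 0]), (1, true, [1, 2, 3, 0, 1, 2, 1, 0])]

set_option maxHeartbeats 2000000 in
theorem subValidE6 : cfgE6.SubValid subDataE6 where
  basic := by decide +kernel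
  central := by decide +kernel
  ideal := by decide +kernel
  stable := by decide +kernel
  noncomm := by decide +kernel
  gamma := by decide +kernel
  gammaTop := by decide +kernel
  gammaNeg := by decide +kernel
  wordJ := by decide +kernel
  word2 := by decide +kernel
  lower := by decide +kernel
  top := by decide +kernel
  topShort := by decide +kernel
  steps := by decide +kernel
  refls := by decide +kernel
  transs := by decide +kernel
  scale := by decide +kernel

theorem twistedE6_subfield_maximal {K : Type*} [Field K] [Fintype K] {p q : ℕ} [Fact p.Prime]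
    (hq : ∃ a : ℕ, 1 ≤ a ∧ q = p ^ a) (hK : Fintype.card K = q ^ 2)
    (M : Subgroup (GL chevE6.Idx K))
    (hM : ∀ g : GL chevE6.Idx K, g ∈ M ↔ g ∈ twistedE6 K q ∧ ∀ i j : chevE6.Idx,
      ((g : Matrix chevE6.Idx chevE6.Idx K) i j) ^ q = (g : Matrix chevE6.Idx chevE6.Idx K) i j) :
    M ≠ twistedE6 K q ∧ ∀ H : Subgroup (GL chevE6.Idx K),
      M ≤ H → H ≤ twistedE6 K q → H = M ∨ H = twistedE6 K q := by
  obtain ⟨a, ha, rfl⟩ := hq
  have hqp : IsPrimePow (p ^ a) :=
    (Nat.Prime.isPrimePow (Fact.out : p.Prime)).pow (by omega)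
  obtain ⟨Φ, e, hF, hfix, hK', -⟩ := twistedE6_eq_tG hqp hK
  refine FieldTwist.maximal_of_eq Φ hF e hM
    (Φ.subM_maximal setupE6_faithful cfgE6_autValid subValidE6
      (Φ.exists_moved hqp.two_le (by decide) hfix hK') fun H hH _ x hx hxH => ?_)
  refine Φ.all_of_quadratic hfix hK'
    (P := fun y => Φ.oX (setupE6.rsR subValidE6) y ∈ H)
    (fun u v hu hv => by rw [← FieldTwist.oX_mul]; exact mul_mem hu hv)
    (fun l y hl hy => Φ.rsR_scale_mem setupE6_faithful subValidE6 hH hl hy)
    (hH (Φ.oX_mem_subM setupE6_faithful _ (map_one Φ.f))) hx hxH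

end CfsgLib.GraphTwist
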