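import Cfsg.Agent.GraphTwist.Cfg

/-!
# The finite checks for the maximality of the subfield points of a twisted group

`b` is the fixed node joined to the highest root, `pS` the place of the highest orbit of several
roots, `wJ` a word carrying `gam` (the highest root less `b`) to `b`, `w2` one carrying `b` to the
highest root. The three lists are certificates for the commutator step, for the reflections and
for the transport of the top orbit to the fundamental ones.
-/

set_option autoImplicit false

namespace CfsgLib.GraphTwist

open Cfsg.Lie CfsgLib.Chevalley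

/-- The data. -/
structure SubData where
  /-- the fixed node joined to the highest root -/
  b : ℕ
  /-- the highest root -/
  top : ℕ
  /-- the highest root less the fundamental root of `b` -/
  gam : ℕ
  /-- a word carrying `gam` to the fundamental root of `b` -/
  wJ : List ℕ
  /-- a word carrying the fundamental root of `b` to the highest root -/
  w2 : List ℕ
  /-- the place of the highest orbit of several roots -/
  pS : ℕ
  /-- an orbit of nodes whose torus scales the highest orbit of several roots -/
  sn : ℕ
  /-- place, place of the commutated orbit, place of the result, root -/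
  step : List (ℕ × ℕ × ℕ × ℕ)
  /-- orbit of nodes, sign, word, root -/
  refl : List (ℕ × Bool × List ℕ × ℕ)
  /-- orbit of nodes, sign, word -/
  trans : List (ℕ × Bool × List ℕ)

namespace Cfg

variable {D : ChevalleyDatum} (T : Cfg D) (S : SubData)

/-- The index of a fundamental root or of its negative, by orbit of nodes. -/
def sdI (o : ℕ) (b : Bool) : ℕ := bif b then opp D (T.sp o) else T.sp o

/-- The positive roots not orthogonal to the highest root. -/
def inQ (r : ℕ) : Bool :=
  decide (half D ≤ r) && (decide (r = S.top) || !(D.commTerms r (opp D S.top)).isEmpty)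

/-- The product of the signs along `j` steps of the orbit. -/
def sgJ (r j : ℕ) : ℤ := ((List.range j).map fun i => T.S.sgn (T.S.σf^[i] r)).prod

/-- The coefficient at `z` of the commutator of two root elements. -/
def coef (_T : Cfg D) (a g z : ℕ) : ℤ :=
  if a = g then 0 else ((D.commTerms a g).map fun c => if c.1 = z then c.2.1 else 0).sum

/-- The commutator of two root elements lies in the tail from `p` and is bilinear. -/
def chkPair (p a g : ℕ) : Bool :=
  decide (a = g) || (D.commTerms a g).all fun c => decide (c.1 < D.nroots) &&
    decide (half D ≤ c.1) && decide (p ≤ T.orbPos c.1) && decide (c.2.2.1 = 1) &&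
    decide (c.2.2.2 = 1)

/-- The coefficients of the coordinate at `z` of the commutator of two orbit elements. -/
def stepE (r g z : ℕ) : List ℤ :=
  (List.range (T.osize r)).map fun j => ((List.range (T.osize g)).map fun l =>
    T.coef (T.S.σf^[j] r) (T.S.σf^[l] g) z * T.sgJ r j * T.sgJ g l).sum

/-- A combination of conjugates that is fixed only at fixed elements. -/
def goodE (k : ℕ) (E : List ℤ) : Bool :=
  (List.range k).any fun j => [1, -1].any fun e =>
    decide (E = (List.range k).map fun l => if l = j then e else 0) ||
      (decide (k = 3) && decide (E = (List.range k).map fun l => if l = j then 0 else e))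

/-- A certificate of the commutator step at the place `i`. -/
def stepOk (i : ℕ) (c : ℕ × ℕ × ℕ × ℕ) : Bool :=
  decide (c.1 = i) && decide (i < c.2.2.1) && decide (c.2.1 < T.reps.length) && decide (c.2.2.1 < T.reps.length) &&
    (T.orbN (T.reps.getD c.2.2.1 0)).contains c.2.2.2 &&
    ((T.orbN (T.reps.getD i 0)).all fun a =>
      (T.orbN (T.reps.getD c.2.1 0)).all (T.chkPair c.2.2.1 a)) &&
    ((List.range' (half D) (half D)).all fun s => decide (T.orbPos s ≤ i) ||
      (T.orbN (T.reps.getD c.2.1 0)).all (T.chkPair (c.2.2.1 + 1) s)) &&
    goodE T.k (T.stepE (T.reps.getD i 0) (T.reps.getD c.2.1 0) c.2.2.2)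

/-- The word of the reflection in the image of `b`. -/
def reflWord (w : List ℕ) : List ℕ := w ++ S.b :: w.reverse

/-- A certificate of the reflection step. -/
def reflOk (o : ℕ) (b : Bool) (c : ℕ × Bool × List ℕ × ℕ) : Bool :=
  decide (c.1 = o) && decide (c.2.1 = b) && c.2.2.1.all (fun a => decide (a < T.m)) &&
    decide (c.2.2.2 < D.nroots) && inQ (D := D) S c.2.2.2 &&
    (T.orbN (T.wW (reflWord S c.2.2.1) c.2.2.2)).contains (T.sdI o b)

/-- A certificate of the transport of the highest orbit of several roots. -/
def transOk (o : ℕ) (b : Bool) (c : ℕ × Bool × List ℕ) : Bool :=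
  decide (c.1 = o) && decide (c.2.1 = b) && c.2.2.all (fun a => decide (a < T.m)) &&
    (T.orbN (T.wW c.2.2 (T.reps.getD S.pS 0))).contains (T.sdI o b)

/-- The checks. -/
structure SubValid : Prop where
  basic : (decide (S.b < T.m) && decide (T.S.σf (T.sp S.b) = T.sp S.b) && inQ (D := D) S (T.sp S.b)
    && decide (S.top < D.nroots) && decide (half D ≤ S.top) && decide (T.S.σf S.top = S.top) &&
    decide (S.gam < D.nroots) && inQ (D := D) S S.gam && decide (T.S.σf S.gam = S.gam) &&
    decide (T.sp S.b ≠ S.top) && decide (S.gam ≠ T.sp S.b) && decide (S.gam ≠ S.top) &&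
    decide (S.pS < T.reps.length) && decide (S.sn < T.m)) = true
  central : ((List.range' (half D) (half D)).all fun r =>
    decide (r = S.top) || (D.commTerms r S.top).isEmpty) = true
  ideal : ((List.range' (half D) (half D)).all fun r => !inQ (D := D) S r ||
    (List.range' (half D) (half D)).all fun s => (D.commTerms r s).all fun c =>
      decide (c.1 < D.nroots) && inQ (D := D) S c.1 &&
        decide (c.1 ≠ T.sp S.b)) = true
  stable : ((List.range D.nroots).all fun r =>
    decide (inQ (D := D) S (T.S.σf r) = inQ (D := D) S r)) = true
  noncomm : ((List.range D.nroots).all fun r => decide (r = S.top) ||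
    match D.commTerms r (opp D S.top) with
    | [] => true
    | [(k, c, a, b)] => decide (half D ≤ r) && decide (k < D.nroots) && decide (a = 1) &&
        decide (b = 1) && decide (c * c = 1)
    | _ => false) = true
  gamma : ((List.range' (half D) (half D)).all fun r => !inQ (D := D) S r ||
    decide (r = T.sp S.b) || decide (r = S.gam) || (D.commTerms r S.gam).isEmpty) = true
  gammaTop : (match D.commTerms S.gam (opp D S.top) with
    | [(k, c, a, b)] => decide (k = opp D (T.sp S.b)) && decide (a = 1) && decide (b = 1) &&
        decide (c * c = 1)
    | _ => false) = true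
  gammaNeg : (match D.commTerms (opp D (T.sp S.b)) (opp D S.gam) with
    | [(k, c, a, b)] => decide (k = opp D S.top) && decide (a = 1) && decide (b = 1) &&
        decide (c * c = 1)
    | _ => false) = true
  wordJ : (S.wJ.all (fun o => decide (o < T.m)) && decide (T.wW S.wJ S.gam = T.sp S.b) &&
    decide (T.wW S.wJ S.top = S.top) &&
    (List.range' (half D) (half D)).all fun r => !inQ (D := D) S r ||
      inQ (D := D) S (T.wW S.wJ r)) = true
  word2 : (S.w2.all (fun o => decide (o < T.m)) && decide (T.wW S.w2 (T.sp S.b) = S.top) &&
    decide (T.wW (reflWord S S.w2) S.top = opp D S.top) &&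
    (List.range' (half D) (half D)).all fun r => !inQ (D := D) S r ||
      decide (T.wW (reflWord S S.w2) r < half D)) = true
  lower : ((List.range D.nroots).all fun β => decide (T.S.σf β ≠ β) || decide (β = opp D S.top) ||
    (List.range T.m).any fun o => decide (T.wO o β < β) && (T.orbN (T.sp o)).all fun a =>
      decide (β ≠ opp D a) && (decide (a = β) || (D.commTerms a β).isEmpty)) = true
  top : ((List.range' S.pS (T.reps.length - S.pS)).all fun i => decide (i = S.pS) ||
    decide (T.S.σf (T.reps.getD i 0) = T.reps.getD i 0)) = true
  topShort : decide (T.S.σf (T.reps.getD S.pS 0) ≠ T.reps.getD S.pS 0) = true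
  steps : ((List.range S.pS).all fun i => decide (T.S.σf (T.reps.getD i 0) = T.reps.getD i 0) ||
    S.step.any (T.stepOk i)) = true
  refls : ((List.range T.m).all fun o => decide (T.S.σf (T.sp o) = T.sp o) ||
    [false, true].all fun b => S.refl.any (T.reflOk S o b)) = true
  transs : ((List.range T.m).all fun o => decide (T.S.σf (T.sp o) = T.sp o) ||
    [false, true].all fun b => S.trans.any (T.transOk S o b)) = true
  scale : (let s := (((T.nodes.getD S.sn []).map fun i => D.cartan i (T.reps.getD S.pS 0)).sum : ℤ)
    decide (s * s = 1)) = true

end Cfg

end CfsgLib.GraphTwist
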