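import Cfsg.Agent.GraphTwistSub.Word

/-!
# The coordinate at a root in a layer of the positive unipotent subgroup

The tails `uT i` form a central series of `U`; the coordinate at a root of the `i`-th orbit is a
homomorphism on `uT i` vanishing on `uT (i + 1)`.
-/

set_option autoImplicit false
set_option maxHeartbeats 400000

namespace CfsgLib.GraphTwist

open Cfsg.Lie CfsgLib.Chevalley CfsgLib.Twisted
open scoped MatrixGroups

namespace Setup

variable {D : ChevalleyDatum} (τ : Setup D) {K : Type*} [Field K]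

theorem uT_le_pos (i : ℕ) : τ.uT K i ≤ D.posUnipotent K := by
  rw [← τ.uT_zero]; exact τ.uT_anti (Nat.zero_le i)

theorem conj_uT {v g : GL D.Idx K} (hv : v ∈ D.posUnipotent K) {i : ℕ} (hg : g ∈ τ.uT K i) :
    v * g * v⁻¹ ∈ τ.uT K i :=
  (Subgroup.mem_normalizer_iff.1 (τ.pos_le_normalizer_uT i hv) g).1 hg

theorem conj_inv_uT {v g : GL D.Idx K} (hv : v ∈ D.posUnipotent K) {i : ℕ} (hg : g ∈ τ.uT K i) :
    v⁻¹ * g * v ∈ τ.uT K i := by
  simpa using τ.conj_uT (inv_mem hv) hg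

/-- The tails form a central series. -/
theorem comm_mem_uT_coord {i : ℕ} {v z : GL D.Idx K} (hv : v ∈ D.posUnipotent K) (hz : z ∈ τ.uT K i) :
    v * z * v⁻¹ * z⁻¹ ∈ τ.uT K (i + 1) := by
  have base : ∀ s : Root D, half D ≤ (s : ℕ) → ∀ (u : K) (z : GL D.Idx K), z ∈ τ.uT K i →
      X τ.good.good s u * z * (X τ.good.good s u)⁻¹ * z⁻¹ ∈ τ.uT K (i + 1) := by
    intro s hs u z hz
    induction hz using Subgroup.closure_induction with
    | mem x hx =>
      obtain ⟨r, hr, t, rfl⟩ := hx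
      rcases eq_or_ne s r with rfl | hne
      · rw [X_inv, X_inv, X_mul, X_mul, X_mul, show u + t + -u + -t = 0 by ring, X_zero]
        exact one_mem _
      have hne' : s ≠ r.rev := by
        intro e
        rw [e, Fin.val_rev] at hs
        have := τ.good.good.two_half
        have := hr.1
        omega
      rw [X_comm τ.good.toGoodComm r s hne hne' t u,
        show ∀ a b c : GL D.Idx K, a * b * c * b⁻¹ * a⁻¹ = a * (b * c * b⁻¹) * a⁻¹ from
          fun a b c => by group]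
      exact τ.conj_uT (X_mem_pos _ hr.1 t)
        (τ.conj_uT (X_mem_pos _ hs u) (τ.commRhs_mem_uT hr.1 hs hr.2 t u))
    | one => simp
    | mul x y hx _ ihx ihy =>
      rw [show ∀ v : GL D.Idx K, v * (x * y) * v⁻¹ * (x * y)⁻¹ =
        v * x * v⁻¹ * x⁻¹ * (x * (v * y * v⁻¹ * y⁻¹) * x⁻¹) from fun v => by group]
      exact mul_mem ihx (τ.conj_uT (τ.uT_le_pos i hx) ihy)
    | inv x hx ih =>
      rw [show ∀ v : GL D.Idx K, v * x⁻¹ * v⁻¹ * x⁻¹⁻¹ =
        x⁻¹ * (v * x * v⁻¹ * x⁻¹)⁻¹ * x from fun v => by group]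
      exact τ.conj_inv_uT (τ.uT_le_pos i hx) (inv_mem ih)
  rw [posUnipotent_eq_rootGen τ.good.good] at hv
  induction hv using Subgroup.closure_induction generalizing z with
  | mem x hx =>
    obtain ⟨s, hs, u, rfl⟩ := hx
    exact base s hs u z hz
  | one => simp
  | mul a b ha _ iha ihb =>
    have ha' : a ∈ D.posUnipotent K := by rw [posUnipotent_eq_rootGen τ.good.good]; exact ha
    rw [show a * b * z * (a * b)⁻¹ * z⁻¹ =
      a * (b * z * b⁻¹ * z⁻¹) * a⁻¹ * (a * z * a⁻¹ * z⁻¹) by group]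
    exact mul_mem (τ.conj_uT ha' (ihb hz)) (iha hz)
  | inv a ha ih =>
    have ha' : a ∈ D.posUnipotent K := by rw [posUnipotent_eq_rootGen τ.good.good]; exact ha
    rw [show a⁻¹ * z * a⁻¹⁻¹ * z⁻¹ = a⁻¹ * (a * z * a⁻¹ * z⁻¹)⁻¹ * a by group]
    exact τ.conj_inv_uT ha' (inv_mem (ih hz))

theorem orbMul_single [DecidableEq (Root D)] {r a : Root D} (ha : a ∈ τ.orb r) (u : K) :
    τ.orbMul r (Pi.single a u) = X τ.good.good a u := by
  have hnd := τ.orb_nodup r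
  rw [orbMul]
  generalize τ.orb r = L at ha hnd ⊢
  induction L with
  | nil => simp at ha
  | cons b L ih =>
    rw [List.nodup_cons] at hnd
    rw [List.map_cons, List.prod_cons]
    rcases eq_or_ne a b with rfl | hab
    · rw [Pi.single_eq_same, List.prod_eq_one, mul_one]
      intro x hx
      obtain ⟨c, hc, rfl⟩ := List.mem_map.1 hx
      rw [Pi.single_eq_of_ne (fun e : c = a => hnd.1 (e ▸ hc)), X_zero]
    · rw [Pi.single_eq_of_ne hab.symm, X_zero, one_mul,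
        ih ((List.mem_cons.1 ha).resolve_left hab) hnd.2]

open scoped Classical in
/-- The coordinate at `z` of an element of the `i`-th layer. -/
noncomputable def κ (i : Fin τ.norb) (z : Root D) (g : GL D.Idx K) : K :=
  if h : ∃ t : Root D → K, ∃ b ∈ τ.uT K (i + 1 : ℕ), g = τ.orbMul (τ.rep i) t * b then h.choose z
  else 0

theorem orbMul_mem_uT (i : Fin τ.norb) (t : Root D → K) : τ.orbMul (τ.rep i) t ∈ τ.uT K i :=
  rootGen_mono _ (τ.orb_subset_tail (τ.rep_pos i) (τ.orbPos_eq (τ.self_mem_orb _)).ge)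
    (τ.orbMul_mem_rootGen _ t)

theorem exists_layer {i : Fin τ.norb} {g : GL D.Idx K} (hg : g ∈ τ.uT K i) :
    ∃ t : Root D → K, ∃ b ∈ τ.uT K (i + 1 : ℕ), g = τ.orbMul (τ.rep i) t * b := by
  obtain ⟨a, ha, b, hb, rfl⟩ := τ.exists_split_uT hg
  obtain ⟨t, rfl⟩ := τ.exists_orbMul ha
  exact ⟨t, b, hb, rfl⟩

variable [Finite K] {i : Fin τ.norb} {z : Root D} (hz : z ∈ τ.orb (τ.rep i))
include hz

theorem κ_eq {t : Root D → K} {b : GL D.Idx K} (hb : b ∈ τ.uT K (i + 1 : ℕ)) :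
    τ.κ i z (τ.orbMul (τ.rep i) t * b) = t z := by
  have h : ∃ u : Root D → K, ∃ c ∈ τ.uT K (i + 1 : ℕ),
      τ.orbMul (τ.rep i) t * b = τ.orbMul (τ.rep i) u * c := ⟨t, b, hb, rfl⟩
  rw [κ, dif_pos h]
  obtain ⟨c, hc, e⟩ := h.choose_spec
  generalize h.choose = u at e ⊢
  have h1 : (τ.orbMul (τ.rep i) t)⁻¹ * τ.orbMul (τ.rep i) u = b * c⁻¹ := by
    rw [inv_mul_eq_iff_eq_mul, ← mul_assoc, e, mul_inv_cancel_right]
  have h2 := τ.orb_inf_tail i
    (mul_mem (inv_mem (τ.orbMul_mem_rootGen _ t)) (τ.orbMul_mem_rootGen _ u))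
    (h1 ▸ mul_mem hb (inv_mem hc))
  exact (τ.orbMul_injective (τ.rep_pos i) (inv_mul_eq_one.1 h2) hz).symm

theorem κ_tail {g : GL D.Idx K} (hg : g ∈ τ.uT K (i + 1 : ℕ)) : τ.κ i z g = 0 := by
  have := τ.κ_eq hz (t := fun _ => (0 : K)) hg
  rwa [τ.orbMul_zero, one_mul] at this

theorem κ_mul {g g' : GL D.Idx K} (hg : g ∈ τ.uT K i) (hg' : g' ∈ τ.uT K i) :
    τ.κ i z (g * g') = τ.κ i z g + τ.κ i z g' := by
  obtain ⟨t, b, hb, rfl⟩ := τ.exists_layer hg
  obtain ⟨u, c, hc, rfl⟩ := τ.exists_layer hg'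
  rw [τ.κ_eq hz hb, τ.κ_eq hz hc, show τ.orbMul (τ.rep i) t * b * (τ.orbMul (τ.rep i) u * c) =
      τ.orbMul (τ.rep i) t * τ.orbMul (τ.rep i) u *
        ((τ.orbMul (τ.rep i) u)⁻¹ * b * τ.orbMul (τ.rep i) u * c) by group, τ.orbMul_mul,
    τ.κ_eq hz (mul_mem (τ.conj_inv_uT (τ.uT_le_pos _ (τ.orbMul_mem_uT i u)) hb) hc)]

theorem κ_one : τ.κ i z (1 : GL D.Idx K) = 0 := τ.κ_tail hz (one_mem _)

theorem κ_inv {g : GL D.Idx K} (hg : g ∈ τ.uT K i) : τ.κ i z g⁻¹ = -τ.κ i z g := by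
  have h := τ.κ_mul hz hg (inv_mem hg)
  rw [mul_inv_cancel, τ.κ_one hz] at h
  exact eq_neg_of_add_eq_zero_right h.symm

theorem κ_conj {v g : GL D.Idx K} (hv : v ∈ D.posUnipotent K) (hg : g ∈ τ.uT K i) :
    τ.κ i z (v * g * v⁻¹) = τ.κ i z g := by
  have h := τ.comm_mem_uT_coord hv hg
  rw [show v * g * v⁻¹ = v * g * v⁻¹ * g⁻¹ * g by group,
    τ.κ_mul hz (τ.uT_anti (Nat.le_succ _) h) hg, τ.κ_tail hz h, zero_add]

theorem κ_list {ι : Type*} (L : List ι) (F : ι → GL D.Idx K) (hF : ∀ a ∈ L, F a ∈ τ.uT K i) :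
    τ.κ i z (L.map F).prod = (L.map fun a => τ.κ i z (F a)).sum := by
  induction L with
  | nil => simp [τ.κ_one hz]
  | cons a L ih =>
    simp only [List.map_cons, List.prod_cons, List.sum_cons]
    rw [τ.κ_mul hz (hF a List.mem_cons_self) (Subgroup.list_prod_mem _ fun x hx => ?_),
      ih fun b hb => hF b (List.mem_cons_of_mem _ hb)]
    obtain ⟨b, hb, rfl⟩ := List.mem_map.1 hx
    exact hF b (List.mem_cons_of_mem _ hb)

theorem κ_X {a : Root D} (ha : half D ≤ (a : ℕ)) (hi : (i : ℕ) ≤ τ.cfg.orbPos a) (u : K) :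
    τ.κ i z (X τ.good.good a u) = if a = z then u else 0 := by
  classical
  rcases Nat.eq_or_lt_of_le hi with e | hlt
  · have hm : a ∈ τ.orb (τ.rep i) := τ.mem_orb_rep_iff.2 ⟨ha, e.symm⟩
    have := τ.κ_eq hz (t := Pi.single a u) (b := (1 : GL D.Idx K)) (one_mem _)
    rw [mul_one, τ.orbMul_single hm] at this
    rw [this, Pi.single_apply]
    simp only [eq_comm]
  · rw [if_neg fun e => by
        subst e
        exact absurd (τ.orbPos_eq hz) (Nat.ne_of_gt hlt),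
      τ.κ_tail hz (X_mem_rootGen _ (S := τ.tailSet (i + 1)) ⟨ha, hlt⟩ u)]

/-- Commutators of products, in the layer, are sums. -/
theorem κ_comm_list {ι₁ ι₂ : Type*} (L₁ : List ι₁) (L₂ : List ι₂) (F : ι₁ → GL D.Idx K)
    (G : ι₂ → GL D.Idx K) (hF : ∀ a ∈ L₁, F a ∈ D.posUnipotent K)
    (hG : ∀ b ∈ L₂, G b ∈ D.posUnipotent K)
    (hc : ∀ a ∈ L₁, ∀ b ∈ L₂, F a * G b * (F a)⁻¹ * (G b)⁻¹ ∈ τ.uT K i) :
    (L₁.map F).prod * (L₂.map G).prod * (L₁.map F).prod⁻¹ * (L₂.map G).prod⁻¹ ∈ τ.uT K i ∧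
    τ.κ i z ((L₁.map F).prod * (L₂.map G).prod * (L₁.map F).prod⁻¹ * (L₂.map G).prod⁻¹) =
      (L₁.map fun a => (L₂.map fun b => τ.κ i z (F a * G b * (F a)⁻¹ * (G b)⁻¹)).sum).sum := by
  have inner : ∀ a ∈ L₁,
      F a * (L₂.map G).prod * (F a)⁻¹ * (L₂.map G).prod⁻¹ ∈ τ.uT K i ∧
      τ.κ i z (F a * (L₂.map G).prod * (F a)⁻¹ * (L₂.map G).prod⁻¹) =
        (L₂.map fun b => τ.κ i z (F a * G b * (F a)⁻¹ * (G b)⁻¹)).sum := by
    intro a ha
    induction L₂ with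
    | nil => simp [τ.κ_one hz]
    | cons b L ih =>
      obtain ⟨h1, h2⟩ := ih (fun c hc' => hG c (List.mem_cons_of_mem _ hc'))
        fun a' ha' c hc' => hc a' ha' c (List.mem_cons_of_mem _ hc')
      have hb := hG b List.mem_cons_self
      have h0 := hc a ha b List.mem_cons_self
      simp only [List.map_cons, List.prod_cons, List.sum_cons]
      rw [show ∀ x y P : GL D.Idx K, x * (y * P) * x⁻¹ * (y * P)⁻¹ =
        x * y * x⁻¹ * y⁻¹ * (y * (x * P * x⁻¹ * P⁻¹) * y⁻¹) from fun x y P => by group]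
      exact ⟨mul_mem h0 (τ.conj_uT hb h1),
        by rw [τ.κ_mul hz h0 (τ.conj_uT hb h1), τ.κ_conj hz hb h1, h2]⟩
  clear hc
  induction L₁ with
  | nil => simp [τ.κ_one hz]
  | cons a L ih =>
    obtain ⟨h1, h2⟩ := ih (fun c hc => hF c (List.mem_cons_of_mem _ hc))
      fun c hc => inner c (List.mem_cons_of_mem _ hc)
    obtain ⟨g1, g2⟩ := inner a List.mem_cons_self
    have ha := hF a List.mem_cons_self
    simp only [List.map_cons, List.prod_cons, List.sum_cons]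
    rw [show ∀ x P Q : GL D.Idx K, x * P * Q * (x * P)⁻¹ * Q⁻¹ =
      x * (P * Q * P⁻¹ * Q⁻¹) * x⁻¹ * (x * Q * x⁻¹ * Q⁻¹) from fun x P Q => by group]
    exact ⟨mul_mem (τ.conj_uT ha h1) g1,
      by rw [τ.κ_mul hz (τ.conj_uT ha h1) g1, τ.κ_conj hz ha h1, h2, g2, add_comm]⟩

end Setup

namespace FieldTwist

variable {D : ChevalleyDatum} {τ : Setup D} {K : Type*} [Field K] (Φ : FieldTwist τ K)

theorem fE_mem_uT {i : ℕ} {g : GL D.Idx K} (hg : g ∈ τ.uT K i) : Φ.fE g ∈ τ.uT K i := by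
  refine (rootGen_le τ.good.good (K := (τ.uT K i).comap Φ.fE) fun r hr t => ?_) hg
  show Φ.fE _ ∈ τ.uT K i
  rw [fE_X]
  exact X_mem_rootGen _ hr _

theorem κ_fE [Finite K] {i : Fin τ.norb} {z : Root D} (hz : z ∈ τ.orb (τ.rep i)) {g : GL D.Idx K}
    (hg : g ∈ τ.uT K i) : τ.κ i z (Φ.fE g) = Φ.f (τ.κ i z g) := by
  obtain ⟨t, b, hb, rfl⟩ := τ.exists_layer hg
  have e : Φ.fE (τ.orbMul (τ.rep i) t) = τ.orbMul (τ.rep i) fun a => Φ.f (t a) := by
    rw [Setup.orbMul, Setup.orbMul, map_list_prod, List.map_map]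
    exact congrArg List.prod (List.map_congr_left fun a _ => Φ.fE_X a (t a))
  rw [map_mul, e, τ.κ_eq hz (Φ.fE_mem_uT hb), τ.κ_eq hz hb]

theorem oX_eq_orbProd (r : Root D) (x : K) :
    Φ.oX r x =
      ((List.range (τ.osize r)).map fun j => X τ.good.good ((τ.σR ^ j) r) (Φ.tw j r x)).prod :=
  congrArg List.prod (List.map_congr_left fun j _ => Φ.Ψ_pow_X j r x)

/-- The coordinate of an orbit element. -/
theorem κ_oX [Finite K] {i : Fin τ.norb} {r : Root D} (hr : r ∈ τ.orb (τ.rep i)) {j : ℕ}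
    (hj : j < τ.osize r) (x : K) : τ.κ i ((τ.σR ^ j) r) (Φ.oX r x) = Φ.tw j r x := by
  classical
  have horb : ∀ l, (τ.σR ^ l) r ∈ τ.orb (τ.rep i) := fun l =>
    (τ.orb_perm hr).mem_iff.1 (τ.mem_orb_iff.2 ⟨l, rfl⟩)
  have hm : ∀ l, half D ≤ ((τ.σR ^ l) r : ℕ) ∧ (i : ℕ) ≤ τ.cfg.orbPos ((τ.σR ^ l) r : Root D) :=
    fun l => ⟨τ.orb_pos (τ.rep_pos i) (horb l), (τ.orbPos_eq (horb l)).ge⟩
  rw [oX_eq_orbProd, τ.κ_list (horb j) _ _ fun l _ => X_mem_rootGen _ (S := τ.tailSet i) (hm l) _]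
  simp only [fun l => τ.κ_X (horb j) (hm l).1 (hm l).2 (Φ.tw l r x)]
  have hinj : ∀ l, l < τ.osize r → ((τ.σR ^ l) r = (τ.σR ^ j) r ↔ l = j) := fun l hl =>
    ⟨fun e => List.inj_on_of_nodup_map (f := fun n => (τ.σR ^ n) r) (τ.orb_nodup r)
      (List.mem_range.2 hl) (List.mem_range.2 hj) e, fun e => by rw [e]⟩
  rw [← List.sum_toFinset _ List.nodup_range, List.toFinset_range,
    Finset.sum_eq_single j (fun l hl hne => if_neg fun e => hne ((hinj l (Finset.mem_range.1 hl)).1 e))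
      fun h => absurd (Finset.mem_range.2 hj) h, if_pos rfl]

end FieldTwist

end CfsgLib.GraphTwist
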