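import Cfsg.Agent.GraphTwistSub.Chk
import Cfsg.Agent.GraphTwistSub.Coord

/-!
# The coordinate of a commutator of two orbit elements
-/

set_option autoImplicit false
set_option maxHeartbeats 400000

namespace CfsgLib.GraphTwist

open Cfsg.Lie CfsgLib.Chevalley CfsgLib.Twisted
open scoped MatrixGroups

namespace Setup

variable {D : ChevalleyDatum} (τ : Setup D) {K : Type*} [Field K]

theorem chkPair' {p : ℕ} {a g : Root D} (h : τ.cfg.chkPair p a g = true) :
    a = g ∨ ∀ c ∈ D.commTerms a g, c.1 < D.nroots ∧ half D ≤ c.1 ∧ p ≤ τ.cfg.orbPos c.1 ∧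
      c.2.2.1 = 1 ∧ c.2.2.2 = 1 := by
  simp only [Cfg.chkPair, Bool.or_eq_true, decide_eq_true_eq, List.all_eq_true,
    Bool.and_eq_true, and_assoc] at h
  exact h.imp (fun e => Fin.ext e) id

/-- A commutator of two positive root elements. -/
theorem comm_X_mem {p : ℕ} {a g : Root D} (ha : half D ≤ (a : ℕ)) (hg : half D ≤ (g : ℕ))
    (h : τ.cfg.chkPair p a g = true) (t u : K) :
    X τ.good.good a t * X τ.good.good g u * (X τ.good.good a t)⁻¹ * (X τ.good.good g u)⁻¹ ∈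
      τ.uT K p := by
  rcases eq_or_ne a g with rfl | hne
  · rw [X_inv, X_inv, X_mul, X_mul, X_mul, show t + u + -t + -u = 0 by ring, X_zero]
    exact one_mem _
  have hne' : g ≠ a.rev := fun e => by
    rw [e, Fin.val_rev] at hg
    have := τ.good.good.two_half
    omega
  have hR : commRhs τ.good.good a g t u ∈ τ.uT K p := by
    refine Subgroup.list_prod_mem _ fun x hx => ?_
    simp only [List.map_map, List.mem_map, Function.comp_apply] at hx
    obtain ⟨c, hc, rfl⟩ := hx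
    obtain ⟨h1, h2, h3, -, -⟩ := (τ.chkPair' h).resolve_left hne c hc
    rw [dif_pos h1]
    exact X_mem_rootGen _ (S := τ.tailSet p) (r := ⟨c.1, h1⟩) ⟨h2, h3⟩ _
  have e := X_comm τ.good.toGoodComm a g hne.symm hne' t u
  rw [show X τ.good.good a t * X τ.good.good g u * (X τ.good.good a t)⁻¹ * (X τ.good.good g u)⁻¹ =
      X τ.good.good a t * X τ.good.good g u * (X τ.good.good g u * X τ.good.good a t)⁻¹ by group, e,
    show ∀ x y R : GL D.Idx K, x * y * (x * y * R)⁻¹ = (x * y) * R⁻¹ * (x * y)⁻¹ from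
      fun x y R => by group]
  exact τ.conj_uT (mul_mem (X_mem_pos _ ha t) (X_mem_pos _ hg u)) (inv_mem hR)

/-- The coordinate of a commutator of two root elements. -/
theorem κ_comm_X [Finite K] {i : Fin τ.norb} {z : Root D} (hz : z ∈ τ.orb (τ.rep i)) {a g : Root D}
    (ha : half D ≤ (a : ℕ)) (hg : half D ≤ (g : ℕ)) (h : τ.cfg.chkPair i a g = true) (t u : K) :
    τ.κ i z
        (X τ.good.good a t * X τ.good.good g u * (X τ.good.good a t)⁻¹ * (X τ.good.good g u)⁻¹) =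
      (τ.cfg.coef (a : ℕ) g z : K) * t * u := by
  rcases eq_or_ne a g with rfl | hne
  · rw [X_inv, X_inv, X_mul, X_mul, X_mul, show t + u + -t + -u = 0 by ring, X_zero, τ.κ_one hz,
      Cfg.coef, if_pos rfl, Int.cast_zero, zero_mul, zero_mul]
  have hne' : g ≠ a.rev := fun e => by
    rw [e, Fin.val_rev] at hg
    have := τ.good.good.two_half
    omega
  have hT := (τ.chkPair' h).resolve_left hne
  have hmem : ∀ c ∈ D.commTerms (a : ℕ) g, ∀ v : K,
      (if h : c.1 < D.nroots then X τ.good.good ⟨c.1, h⟩ v else 1) ∈ τ.uT K i := by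
    intro c hc v
    obtain ⟨h1, h2, h3, -, -⟩ := hT c hc
    rw [dif_pos h1]
    exact X_mem_rootGen _ (S := τ.tailSet i) (r := ⟨c.1, h1⟩) ⟨h2, h3⟩ _
  have hR : commRhs τ.good.good a g t u ∈ τ.uT K i := by
    refine Subgroup.list_prod_mem _ fun x hx => ?_
    simp only [List.map_map, List.mem_map, Function.comp_apply] at hx
    obtain ⟨c, hc, rfl⟩ := hx
    exact hmem c hc _
  have e := X_comm τ.good.toGoodComm a g hne.symm hne' t u
  rw [show X τ.good.good a t * X τ.good.good g u * (X τ.good.good a t)⁻¹ * (X τ.good.good g u)⁻¹ =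
      X τ.good.good a t * X τ.good.good g u * (X τ.good.good g u * X τ.good.good a t)⁻¹ by group, e,
    show ∀ x y R : GL D.Idx K, x * y * (x * y * R)⁻¹ = (x * y) * R⁻¹ * (x * y)⁻¹ from
      fun x y R => by group,
    τ.κ_conj hz (mul_mem (X_mem_pos _ ha t) (X_mem_pos _ hg u)) (inv_mem hR), τ.κ_inv hz hR,
    commRhs, wordGL, List.map_map, τ.κ_list hz _ _ fun c hc => by
      simp only [Function.comp_apply]; exact hmem c hc _,
    Cfg.coef, if_neg (fun e => hne (Fin.ext e))]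
  clear e hR hmem
  generalize D.commTerms (a : ℕ) g = L at hT
  induction L with
  | nil => simp
  | cons c L ih =>
    obtain ⟨h1, h2, h3, h4, h5⟩ := hT c List.mem_cons_self
    have hX := fun v : K => τ.κ_X hz (a := ⟨c.1, h1⟩) h2 h3 v
    simp only [List.map_cons, List.sum_cons, Int.cast_add, add_mul, neg_add,
      ← ih fun c' hc' => hT c' (List.mem_cons_of_mem _ hc')]
    congr 1
    simp only [Function.comp_apply, dif_pos h1, h4, h5, pow_one, hX]
    by_cases hcz : c.1 = (z : ℕ)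
    · rw [if_pos hcz, if_pos (Fin.ext hcz)]; ring
    · rw [if_neg hcz, if_neg (fun e => hcz (congrArg Fin.val e))]; simp

/-- Commutators of two groups of positive root elements. -/
theorem comm_rootGen_mem {S T : Set (Root D)} (hS : S ⊆ posSet D) (hT : T ⊆ posSet D) {n : ℕ}
    (h : ∀ a ∈ S, ∀ g ∈ T, τ.cfg.chkPair n (a : ℕ) g = true) {x y : GL D.Idx K}
    (hx : x ∈ rootGen τ.good.good K S) (hy : y ∈ rootGen τ.good.good K T) :
    x * y * x⁻¹ * y⁻¹ ∈ τ.uT K n := by
  have hpos : ∀ {U : Set (Root D)}, U ⊆ posSet D → ∀ {w : GL D.Idx K},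
      w ∈ rootGen τ.good.good K U → w ∈ D.posUnipotent K := by
    intro U hU w hw
    rw [posUnipotent_eq_rootGen τ.good.good]; exact rootGen_mono _ hU hw
  induction hx using Subgroup.closure_induction with
  | mem x hx =>
    obtain ⟨a, ha, t, rfl⟩ := hx
    have hxp : X τ.good.good a t ∈ D.posUnipotent K := X_mem_pos _ (hS ha) t
    induction hy using Subgroup.closure_induction with
    | mem y hy => obtain ⟨g, hg, u, rfl⟩ := hy; exact τ.comm_X_mem (hS ha) (hT hg) (h a ha g hg) t u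
    | one => simp
    | mul y y' hy _ ih ih' =>
      rw [show ∀ v : GL D.Idx K, v * (y * y') * v⁻¹ * (y * y')⁻¹ =
        v * y * v⁻¹ * y⁻¹ * (y * (v * y' * v⁻¹ * y'⁻¹) * y⁻¹) from fun v => by group]
      exact mul_mem ih (τ.conj_uT (hpos hT hy) ih')
    | inv y hy ih =>
      rw [show ∀ v : GL D.Idx K, v * y⁻¹ * v⁻¹ * y⁻¹⁻¹ =
        y⁻¹ * (v * y * v⁻¹ * y⁻¹)⁻¹ * y from fun v => by group]
      exact τ.conj_inv_uT (hpos hT hy) (inv_mem ih)
  | one => simp
  | mul x x' hx _ ih ih' =>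
    rw [show x * x' * y * (x * x')⁻¹ * y⁻¹ =
      x * (x' * y * x'⁻¹ * y⁻¹) * x⁻¹ * (x * y * x⁻¹ * y⁻¹) by group]
    exact mul_mem (τ.conj_uT (hpos hS hx) ih') ih
  | inv x hx ih =>
    rw [show x⁻¹ * y * x⁻¹⁻¹ * y⁻¹ = x⁻¹ * (x * y * x⁻¹ * y⁻¹)⁻¹ * x by group]
    exact τ.conj_inv_uT (hpos hS hx) (inv_mem ih)

theorem chkPair_orb {n : ℕ} {r g : Root D}
    (h : ((τ.cfg.orbN r).all fun a => (τ.cfg.orbN g).all (τ.cfg.chkPair n a)) = true) :
    ∀ a ∈ τ.orb r, ∀ b ∈ τ.orb g, τ.cfg.chkPair n (a : ℕ) b = true := fun a ha b hb =>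
  List.all_eq_true.1 (List.all_eq_true.1 h a (τ.mem_orbN_iff.2 ha)) b (τ.mem_orbN_iff.2 hb)

end Setup

namespace FieldTwist

variable {D : ChevalleyDatum} {τ : Setup D} {K : Type*} [Field K] (Φ : FieldTwist τ K)

/-- The coordinate of the commutator of `X_r(x)` and `X_g(1)`. -/
theorem κ_comm_oX [Finite K] {i : Fin τ.norb} {z : Root D} (hz : z ∈ τ.orb (τ.rep i)) {r g : Root D}
    (hr : half D ≤ (r : ℕ)) (hg : half D ≤ (g : ℕ))
    (h : ∀ a ∈ τ.orb r, ∀ b ∈ τ.orb g, τ.cfg.chkPair i (a : ℕ) b = true) (x : K) :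
    Φ.oX r x * Φ.oX g 1 * (Φ.oX r x)⁻¹ * (Φ.oX g 1)⁻¹ ∈ τ.uT K i ∧
    τ.κ i z (Φ.oX r x * Φ.oX g 1 * (Φ.oX r x)⁻¹ * (Φ.oX g 1)⁻¹) =
      ∑ j ∈ Finset.range (τ.osize r), ((τ.cfg.stepE r g z).getD j 0 : K) * Φ.f^[j] x := by
  simp only [oX_eq_orbProd]
  have hrj : ∀ j, (τ.σR ^ j) r ∈ τ.orb r := fun j => τ.mem_orb_iff.2 ⟨j, rfl⟩
  have hgj : ∀ j, (τ.σR ^ j) g ∈ τ.orb g := fun j => τ.mem_orb_iff.2 ⟨j, rfl⟩
  obtain ⟨h1, h2⟩ := τ.κ_comm_list hz (List.range (τ.osize r)) (List.range (τ.osize g))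
    (fun j => X τ.good.good ((τ.σR ^ j) r) (Φ.tw j r x))
    (fun l => X τ.good.good ((τ.σR ^ l) g) (Φ.tw l g 1))
    (fun j _ => X_mem_pos _ (τ.orb_pos hr (hrj j)) _)
    (fun l _ => X_mem_pos _ (τ.orb_pos hg (hgj l)) _)
    (fun j _ l _ => τ.comm_X_mem (τ.orb_pos hr (hrj j)) (τ.orb_pos hg (hgj l))
      (h _ (hrj j) _ (hgj l)) _ _)
  refine ⟨h1, h2.trans ?_⟩
  simp only [fun j l => τ.κ_comm_X hz (τ.orb_pos hr (hrj j)) (τ.orb_pos hg (hgj l))
    (h _ (hrj j) _ (hgj l)) (Φ.tw j r x) (Φ.tw l g 1)]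
  rw [← List.sum_toFinset _ List.nodup_range, List.toFinset_range]
  refine Finset.sum_congr rfl fun j hj => ?_
  have hE : (τ.cfg.stepE (r : ℕ) g z).getD j 0 = ((List.range (τ.cfg.osize g)).map fun l =>
      τ.cfg.coef (τ.cfg.S.σf^[j] r) (τ.cfg.S.σf^[l] g) z * τ.cfg.sgJ r j * τ.cfg.sgJ g l).sum := by
    rw [List.getD_eq_getElem _ _ (by simpa [Cfg.stepE, Setup.osize] using (Finset.mem_range.1 hj : j < τ.osize r))]
    simp [Cfg.stepE]
  rw [hE, ← List.sum_toFinset _ List.nodup_range, ← List.sum_toFinset _ List.nodup_range,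
    List.toFinset_range, List.toFinset_range, Int.cast_sum, Finset.sum_mul]
  refine Finset.sum_congr rfl fun l _ => ?_
  rw [Φ.tw_eq, Φ.tw_eq, τ.σR_pow_val, τ.σR_pow_val,
    Function.iterate_fixed (map_one Φ.f) l, mul_one]
  simp only [Cfg.sgJ, Int.cast_mul]
  ring

/-- A good combination of conjugates is fixed only at fixed elements. -/
theorem fixed_of_goodE {E : List ℤ} (hE : Cfg.goodE τ.cfg.k E = true) {x : K}
    (h : Φ.f (∑ j ∈ Finset.range τ.cfg.k, (E.getD j 0 : K) * Φ.f^[j] x) =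
      ∑ j ∈ Finset.range τ.cfg.k, (E.getD j 0 : K) * Φ.f^[j] x) : Φ.f x = x := by
  classical
  have hfin : ∀ j, Φ.f (Φ.f^[j] x) = Φ.f^[j] x → Φ.f x = x := fun j hj => by
    rw [← Function.iterate_succ_apply' Φ.f, Function.iterate_succ_apply Φ.f] at hj
    exact (Φ.f.injective.iterate j) hj
  simp only [Cfg.goodE, List.any_eq_true, List.mem_range, List.mem_cons, List.not_mem_nil, or_false,
    Bool.or_eq_true, Bool.and_eq_true, decide_eq_true_eq] at hE
  obtain ⟨j, hj, e, he, hE⟩ := hE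
  have heK : Φ.f (e : K) = e ∧ (e : K) ≠ 0 := by
    refine ⟨map_intCast Φ.f e, ?_⟩
    rcases he with rfl | rfl <;> simp
  refine hfin j (mul_left_cancel₀ heK.2 ?_)
  rcases hE with rfl | ⟨hk, rfl⟩
  · have hs : ∑ l ∈ Finset.range τ.cfg.k,
        ((((List.range τ.cfg.k).map fun l => if l = j then e else 0).getD l 0 : ℤ) : K) *
          Φ.f^[l] x = (e : K) * Φ.f^[j] x := by
      rw [Finset.sum_eq_single j]
      · rw [List.getD_eq_getElem _ _ (by simpa using hj)]
        simp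
      · intro l hl hne
        rw [List.getD_eq_getElem _ _ (by simpa using Finset.mem_range.1 hl)]
        simp [hne]
      · exact fun h => absurd (Finset.mem_range.2 hj) h
    rw [hs, map_mul, heK.1] at h
    exact h
  · have hs : ∑ l ∈ Finset.range τ.cfg.k,
        ((((List.range τ.cfg.k).map fun l => if l = j then 0 else e).getD l 0 : ℤ) : K) *
          Φ.f^[l] x = (e : K) * (x + Φ.f x + Φ.f (Φ.f x)) - (e : K) * Φ.f^[j] x := by
      rw [hk] at hj ⊢
      simp only [Finset.sum_range_succ, Finset.sum_range_zero, List.range_succ, List.range_zero]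
      interval_cases j <;> simp <;> ring
    have hper : Φ.f (Φ.f (Φ.f x)) = x := by
      have := Φ.periodic x
      rwa [hk] at this
    rw [hs, map_sub, map_mul, map_mul, map_add, map_add, heK.1, hper] at h
    linear_combination -h

end FieldTwist

end CfsgLib.GraphTwist
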