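import Cfsg.Agent.GraphTwistSub.Step

/-!
# Conjugates of the highest root group inside an overgroup are rational
-/

set_option autoImplicit false
set_option maxHeartbeats 400000

namespace CfsgLib.GraphTwist

open Cfsg.Lie CfsgLib.Chevalley CfsgLib.Twisted
open scoped MatrixGroups

namespace Setup

variable {D : ChevalleyDatum} (τ : Setup D)

theorem exists_word {w : List ℕ} (h : w.all (fun o => decide (o < τ.cfg.m)) = true) :
    ∃ w' : List (Fin τ.cfg.m), w'.map Fin.val = w := by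
  simp only [List.all_eq_true, decide_eq_true_eq] at h
  refine ⟨w.pmap Fin.mk h, ?_⟩
  rw [List.map_pmap]
  simp

theorem wP_rev (w : List (Fin τ.cfg.m)) (r : Root D) : τ.wP w r.rev = (τ.wP w r).rev :=
  (FieldTwist.monBy_nW (⟨RingEquiv.refl ℚ, fun _ => Function.iterate_id _ ▸ rfl⟩ :
    FieldTwist τ ℚ) w).apply_rev r

variable {S : SubData} (hS : τ.cfg.SubValid S)
include hS

/-- The word of the reflection in the highest root. -/
theorem exists_reflTop :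
    ∃ w2 : List (Fin τ.cfg.m), τ.wP w2 (τ.spR (τ.bI hS)) = τ.topR hS ∧
      τ.wP (w2 ++ τ.bI hS :: w2.reverse) (τ.topR hS) = (τ.topR hS).rev ∧
      ∀ r ∈ Setup.Qs S, (τ.wP (w2 ++ τ.bI hS :: w2.reverse) r : ℕ) < half D := by
  have h := hS.word2
  simp only [Bool.and_eq_true, and_assoc] at h
  obtain ⟨hw, h1, h2, h3⟩ := h
  obtain ⟨w, hw⟩ := τ.exists_word hw
  simp only [decide_eq_true_eq, List.all_eq_true] at h1 h2 h3
  have e : (w ++ τ.bI hS :: w.reverse).map Fin.val = Cfg.reflWord S S.w2 := by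
    rw [Cfg.reflWord, List.map_append, List.map_cons, List.map_reverse, hw]
    rfl
  refine ⟨w, Fin.ext ?_, Fin.ext ?_, fun r hr => ?_⟩
  · rw [τ.wP_val, hw]; exact h1
  · rw [τ.wP_val, e, Setup.rev_val]; exact h2
  · rw [τ.wP_val, e]
    have hp := Qs_pos hr
    have := τ.good.good.two_half
    have hh := h3 r (List.mem_range'_1.2 ⟨hp, by omega⟩)
    simpa [show Cfg.inQ (D := D) S (r : ℕ) = true from hr] using hh

/-- The word fixing the highest root. -/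
theorem exists_wordJ :
    ∃ w : List (Fin τ.cfg.m), τ.wP w (τ.gamR hS) = τ.spR (τ.bI hS) ∧
      τ.wP w (τ.topR hS) = τ.topR hS ∧ ∀ r ∈ Setup.Qs S, τ.wP w r ∈ Setup.Qs S := by
  have h := hS.wordJ
  simp only [Bool.and_eq_true, and_assoc] at h
  obtain ⟨hw, h1, h2, h3⟩ := h
  obtain ⟨w, hw⟩ := τ.exists_word hw
  simp only [decide_eq_true_eq, List.all_eq_true] at h1 h2 h3
  refine ⟨w, Fin.ext ?_, Fin.ext ?_, fun r hr => ?_⟩
  · rw [τ.wP_val, hw]; exact h1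
  · rw [τ.wP_val, hw]; exact h2
  · show Cfg.inQ (D := D) S (τ.wP w r : ℕ) = true
    rw [τ.wP_val, hw]
    have hp := Qs_pos hr
    have := τ.good.good.two_half
    have hh := h3 r (List.mem_range'_1.2 ⟨hp, by omega⟩)
    simpa [show Cfg.inQ (D := D) S (r : ℕ) = true from hr] using hh

theorem exists_lower {β : Root D} (hβ : τ.σR β = β) (hne : β ≠ (τ.topR hS).rev) :
    ∃ o : Fin τ.cfg.m, (τ.wR o β : ℕ) < (β : ℕ) ∧
      ∀ a ∈ τ.orb (τ.spR o), a = β ∨ β ≠ a.rev ∧ D.commTerms a β = [] := by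
  have := List.all_eq_true.1 hS.lower β (List.mem_range.2 β.2)
  simp only [Bool.or_eq_true, decide_eq_true_eq, List.any_eq_true, List.mem_range,
    Bool.and_eq_true, List.all_eq_true, List.isEmpty_iff] at this
  rcases this with (h | h) | ⟨o, ho, h1, h2⟩
  · exact absurd (congrArg Fin.val hβ) h
  · exact absurd (Fin.ext (by rw [Setup.rev_val]; exact h)) hne
  · refine ⟨⟨o, ho⟩, by rw [τ.wR_val]; exact h1, fun a ha => ?_⟩
    obtain ⟨h3, h4⟩ := h2 a (τ.mem_orbN_iff.2 ha)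
    exact h4.imp (fun e => Fin.ext e) fun e => ⟨fun e' => h3 (by rw [e', Setup.rev_val]), e⟩

/-- Every fixed root is an image of the highest one. -/
theorem exists_word_top {δ : Root D} (hδ : τ.σR δ = δ) :
    ∃ w : List (Fin τ.cfg.m), τ.wP w (τ.topR hS) = δ := by
  induction hn : (δ : ℕ) using Nat.strong_induction_on generalizing δ with
  | _ n ih =>
    by_cases he : δ = (τ.topR hS).rev
    · obtain ⟨w, -, h, -⟩ := τ.exists_reflTop hS
      exact ⟨_, h.trans he.symm⟩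
    obtain ⟨o, ho, -⟩ := τ.exists_lower hS hδ he
    let Φ : FieldTwist τ ℚ := ⟨RingEquiv.refl ℚ, fun _ => Function.iterate_id _ ▸ rfl⟩
    have hfix : τ.σR (τ.wR o δ) = τ.wR o δ :=
      (Φ.osize_monBy (Φ.monBy_nO o) (Φ.nO_mem_fix o) δ).2 hδ
    obtain ⟨w, hw⟩ := ih _ (hn ▸ ho) hfix rfl
    refine ⟨o :: w, ?_⟩
    rw [Setup.wP, List.map_cons, List.prod_cons, Equiv.Perm.mul_apply,
      show (w.map τ.wR).prod (τ.topR hS) = τ.wR o δ from hw, ← Equiv.Perm.mul_apply, τ.wR_wR,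
      Equiv.Perm.one_apply]

end Setup

namespace FieldTwist

variable {D : ChevalleyDatum} {τ : Setup D} {K : Type*} [Field K] (Φ : FieldTwist τ K)

/-- The fixed points in the group of the roots not orthogonal to the highest root. -/
def A1 (S : SubData) : Subgroup (GL D.Idx K) :=
  rootGen τ.good.good K (Setup.Qs S) ⊓ Φ.fix

theorem A1_le_U1 {S : SubData} : Φ.A1 S ≤ Φ.U1 := fun g hg => ⟨by
  show g ∈ D.posUnipotent K
  rw [posUnipotent_eq_rootGen τ.good.good]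
  exact rootGen_mono _ (fun r hr => Setup.Qs_pos hr) hg.1, hg.2⟩

theorem fE_mem_rootGen {T : Set (Root D)} {g : GL D.Idx K}
    (hg : g ∈ rootGen τ.good.good K T) : Φ.fE g ∈ rootGen τ.good.good K T := by
  refine (rootGen_le τ.good.good (K := (rootGen τ.good.good K T).comap Φ.fE) fun r hr t => ?_) hg
  show Φ.fE _ ∈ rootGen τ.good.good K T
  rw [fE_X]
  exact X_mem_rootGen _ hr _

theorem monBy_refl (w : List (Fin τ.cfg.m)) (o : Fin τ.cfg.m) :
    MonBy τ.good (Φ.nW w * Φ.nO o * (Φ.nW w)⁻¹) (τ.wP (w ++ o :: w.reverse)) := by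
  have e : τ.wP (w ++ o :: w.reverse) = τ.wP w * τ.wR o * (τ.wP w)⁻¹ := by
    rw [← τ.wP_reverse]
    simp [Setup.wP, mul_assoc]
  rw [e]
  exact ((Φ.monBy_nW w).mul (Φ.monBy_nO o)).mul (Φ.monBy_nW w).inv

theorem refl_mem_subM (w : List (Fin τ.cfg.m)) (o : Fin τ.cfg.m) :
    Φ.nW w * Φ.nO o * (Φ.nW w)⁻¹ ∈ Φ.subM :=
  mul_mem (mul_mem (Φ.nW_mem_subM w) (Φ.nO_mem_subM o)) (inv_mem (Φ.nW_mem_subM w))

/-- What commutes with `X_o(F_q)` and `X_{-o}(F_q)` moved by a word commutes with the reflection. -/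
theorem commute_refl (w : List (Fin τ.cfg.m)) (o : Fin τ.cfg.m) {c : GL D.Idx K}
    (h : ∀ t, Φ.f t = t → Commute c (Φ.nW w * Φ.pX o t * (Φ.nW w)⁻¹) ∧
      Commute c (Φ.nW w * Φ.pY o t * (Φ.nW w)⁻¹)) :
    Commute c (Φ.nW w * Φ.nO o * (Φ.nW w)⁻¹) := by
  rw [← Φ.nO_eq_prod o, show ∀ n x y z : GL D.Idx K,
    n * (x * y * z) * n⁻¹ = n * x * n⁻¹ * (n * y * n⁻¹) * (n * z * n⁻¹) from
    fun n x y z => by group]
  exact (((h 1 (map_one _)).1.mul_right (h (-1) (by rw [map_neg, map_one])).2)).mul_right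
    (h 1 (map_one _)).1

variable [Finite K] (hθ : τ.Faithful)
include hθ

/-- The conjugate of a fixed root element by a rational monomial element. -/
theorem exists_conj_X {g : GL D.Idx K} (hg : g ∈ Φ.subM) {π : Equiv.Perm (Root D)}
    (hπ : MonBy τ.good g π) {r : Root D} (hr : τ.σR r = r) :
    τ.σR (π r) = π r ∧ ∃ c : K, Φ.f c = c ∧ c ≠ 0 ∧ ∀ t, Φ.f t = t →
      g * X τ.good.good r t * g⁻¹ = X τ.good.good (π r) (c * t) := by
  have hfix := (Φ.osize_monBy hπ (Φ.subM_le_fix hg) r).2 hr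
  obtain ⟨c, hc, hc0, h⟩ := Φ.exists_conj_subM hθ hg hπ r
  refine ⟨hfix, c, hc, hc0, fun t ht => ?_⟩
  rw [← Φ.oX_eq_X hr, ← Φ.oX_eq_X hfix]
  exact (h t (Φ.adm_of_fixed r ht)).2

variable {S : SubData} (hS : τ.cfg.SubValid S)
include hS

omit hθ [Finite K] in
theorem pX_bI (t : K) : Φ.pX (τ.bI hS) t = X τ.good.good (τ.spR (τ.bI hS)) t :=
  Φ.oX_eq_X (τ.σR_bI hS) t

omit hθ [Finite K] in
theorem pY_bI (t : K) : Φ.pY (τ.bI hS) t = X τ.good.good (τ.spR (τ.bI hS)).rev t :=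
  Φ.oX_eq_X (by rw [τ.σR_rev, τ.σR_bI hS]) t

include Φ in
omit hθ [Finite K] in
theorem negb_conj_compl {v : GL D.Idx K} (hv : v ∈ rootGen τ.good.good K (τ.compl (τ.bI hS)))
    (t : K) :
    X τ.good.good (τ.spR (τ.bI hS)).rev t * v * (X τ.good.good (τ.spR (τ.bI hS)).rev t)⁻¹ ∈
      rootGen τ.good.good K (τ.compl (τ.bI hS)) := by
  set o := τ.bI hS
  rw [← Φ.pY_bI hS t, ← neg_neg t, ← Φ.nO_conj_pX o (-t)]
  obtain ⟨h, hh, e⟩ := Φ.exists_inv_nO o
  have h1 : (Φ.nO o)⁻¹ * v * Φ.nO o ∈ rootGen τ.good.good K (τ.compl o) := by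
    have h2 := Φ.nO_conj_compl o (diag_conj_rootGen τ.good (Φ.H₀_le_diag hh) hv)
    rwa [show Φ.nO o * (h * v * h⁻¹) * (Φ.nO o)⁻¹ = Φ.nO o * h * v * (Φ.nO o * h)⁻¹ by group,
      ← e, inv_inv] at h2
  have h3 := Φ.nO_conj_compl o ((Subgroup.mem_normalizer_iff.1
    (τ.pos_le_normalizer_compl o (Φ.oX_mem_pos (τ.spR_pos o) (-t))) _).1 h1)
  convert h3 using 1
  simp only [mul_inv_rev, inv_inv]
  group

omit hθ in
/-- The fixed points split at `b`. -/
theorem exists_split_A1 {a : GL D.Idx K} (ha : a ∈ Φ.A1 S) :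
    ∃ v ∈ rootGen τ.good.good K (τ.Qb S), ∃ x, Φ.f x = x ∧
      a = X τ.good.good (τ.spR (τ.bI hS)) x * v := by
  set B := τ.spR (τ.bI hS) with hB
  have hBpos : ∀ x : K, X τ.good.good B x ∈
      Subgroup.normalizer (rootGen τ.good.good K (τ.Qb S) : Set (GL D.Idx K)) := fun x =>
    τ.pos_le_normalizer_Qb hS (X_mem_pos _ (τ.spR_pos _) x)
  have split : ∀ g ∈ rootGen τ.good.good K (Setup.Qs S),
      ∃ ℓ ∈ rootGen τ.good.good K (τ.Qb S), ∃ x : K, g = ℓ * X τ.good.good B x := by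
    intro g hg
    induction hg using Subgroup.closure_induction with
    | mem x hx =>
      obtain ⟨r, hr, t, rfl⟩ := hx
      by_cases h : (r : ℕ) = τ.cfg.sp S.b
      · exact ⟨1, one_mem _, t, by rw [one_mul, show r = B from Fin.ext h]⟩
      · exact ⟨_, X_mem_rootGen _ (S := τ.Qb S) ⟨hr, h⟩ t, 0, by rw [X_zero, mul_one]⟩
    | one => exact ⟨1, one_mem _, 0, by rw [X_zero, one_mul]⟩
    | mul g h _ _ ihg ihh =>
      obtain ⟨ℓ, hℓ, x, rfl⟩ := ihg
      obtain ⟨ℓ', hℓ', x', rfl⟩ := ihh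
      refine ⟨ℓ * (X τ.good.good B x * ℓ' * (X τ.good.good B x)⁻¹),
        mul_mem hℓ ((Subgroup.mem_normalizer_iff.1 (hBpos x) _).1 hℓ'), x + x', ?_⟩
      rw [← X_mul]; group
    | inv g _ ih =>
      obtain ⟨ℓ, hℓ, x, rfl⟩ := ih
      refine ⟨(X τ.good.good B x)⁻¹ * ℓ⁻¹ * X τ.good.good B x, ?_, -x, ?_⟩
      · have := (Subgroup.mem_normalizer_iff.1 (inv_mem (hBpos x)) _).1 (inv_mem hℓ)
        rwa [inv_inv] at this
      · rw [← X_inv]; group
  obtain ⟨ℓ, hℓ, x, rfl⟩ := split a ha.1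
  have hσ : ∀ r ∈ τ.Qb S, τ.σR r ∈ τ.Qb S := fun r hr =>
    ⟨(τ.Qs_σR hS).2 hr.1, fun e => hr.2 (congrArg Fin.val (τ.σR.injective
      (show τ.σR r = τ.σR B from (Fin.ext e : τ.σR r = B).trans (τ.σR_bI hS).symm)))⟩
  have hfx : Φ.f x = x := by
    have hf : Φ.Ψ (ℓ * X τ.good.good B x) = ℓ * X τ.good.good B x := Φ.mem_fix.1 ha.2
    rw [map_mul, Φ.Ψ_X, hB, τ.σR_bI hS, τ.sgn_pRoot, Int.cast_one, one_mul] at hf
    have hz : ℓ⁻¹ * Φ.Ψ ℓ = X τ.good.good B x * (X τ.good.good B (Φ.f x))⁻¹ := by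
      rw [inv_mul_eq_iff_eq_mul, ← mul_assoc, ← hf, mul_inv_cancel_right]
    have h1 : ℓ⁻¹ * Φ.Ψ ℓ = 1 := by
      refine τ.eq_one_of_compl_orb Φ (o := τ.bI hS)
        (rootGen_mono _ (τ.Qb_subset_compl hS) (mul_mem (inv_mem hℓ) (Φ.Ψ_mem_rootGen hσ hℓ))) ?_
      rw [hz]
      exact mul_mem (X_mem_rootGen _ (τ.self_mem_orb _) _)
        (inv_mem (X_mem_rootGen _ (τ.self_mem_orb _) _))
    rw [h1] at hz
    exact (X_injective τ.good.good _ (mul_inv_eq_one.1 hz.symm)).symm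
  refine ⟨(X τ.good.good B x)⁻¹ * ℓ * X τ.good.good B x, ?_, x, hfx, by group⟩
  have := (Subgroup.mem_normalizer_iff.1 (inv_mem (hBpos x)) _).1 hℓ
  rwa [inv_inv] at this

omit hθ in
/-- A fixed element of `U` is a product of one in `A` and one commuting with the lowest root. -/
theorem exists_A1_mul {u : GL D.Idx K} (hu : u ∈ Φ.U1) :
    ∃ a ∈ Φ.A1 S, ∃ j : GL D.Idx K, (∀ s, Commute j (X τ.good.good (τ.topR hS).rev s)) ∧
      u = a * j := by
  set C : Subgroup (GL D.Idx K) :=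
    Φ.U1 ⊓ Subgroup.centralizer {g | ∃ s, X τ.good.good (τ.topR hS).rev s = g}
  have hn : C ≤ Subgroup.normalizer (Φ.A1 S : Set (GL D.Idx K)) := by
    have key : ∀ c ∈ Φ.U1, ∀ a ∈ Φ.A1 S, c * a * c⁻¹ ∈ Φ.A1 S := fun c hc a ha =>
      ⟨(Subgroup.mem_normalizer_iff.1 (τ.pos_le_normalizer_Qs hS hc.1) a).1 ha.1,
        mul_mem (mul_mem hc.2 ha.2) (Φ.fix.inv_mem hc.2)⟩
    intro c hc
    refine Subgroup.mem_normalizer_iff.2 fun a => ⟨key c hc.1 a, fun h => ?_⟩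
    have := key c⁻¹ (inv_mem hc.1) _ h
    rwa [show c⁻¹ * (c * a * c⁻¹) * c⁻¹⁻¹ = a by group] at this
  have hmem : u ∈ Φ.A1 S ⊔ C := by
    refine Φ.u1_induction (fun i x hx => ?_) hu
    by_cases h : τ.rep i ∈ Setup.Qs S
    · exact Subgroup.mem_sup_left ⟨rootGen_mono _ (fun a ha => (τ.Qs_orb hS ha).2 h)
        (Φ.oX_mem_rootGen _ x), Φ.oX_mem_fix hx⟩
    · refine Subgroup.mem_sup_right ⟨Φ.oX_mem_U1 (τ.rep_pos i) hx,
        Subgroup.mem_centralizer_iff.2 ?_⟩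
      rintro _ ⟨s, rfl⟩
      refine Commute.eq (Commute.symm (?_ : Commute (Φ.oX (τ.rep i) x)
        (X τ.good.good (τ.topR hS).rev s)))
      rw [Φ.oX_eq_orbProd]
      refine Commute.list_prod_left _ _ fun y hy => ?_
      obtain ⟨j, -, rfl⟩ := List.mem_map.1 hy
      have hm : (τ.σR ^ j) (τ.rep i) ∉ Setup.Qs S := fun hh =>
        h ((τ.Qs_orb hS (τ.mem_orb_iff.2 ⟨j, rfl⟩)).1 hh)
      rw [τ.mem_Qs_iff hS, not_or, not_not] at hm
      exact τ.commute_X (Or.inr ⟨fun e => hm.1 (Fin.rev_injective e.symm), hm.2⟩) _ _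
  rw [← SetLike.mem_coe, Subgroup.coe_mul_of_right_le_normalizer_left _ _ hn, Set.mem_mul] at hmem
  obtain ⟨a, ha, j, hj, e⟩ := hmem
  exact ⟨a, ha, j, fun s => (Subgroup.mem_centralizer_iff.1 hj.2 _ ⟨s, rfl⟩).symm, e.symm⟩

variable {H : Subgroup (GL D.Idx K)} (hM : Φ.subM ≤ H) (hHG : H ≤ Φ.tG)
  (hHU : H ⊓ Φ.U1 ≤ Φ.subM)
include hM hHG hHU

/-- The key step. -/
theorem commute_negb {a : GL D.Idx K} (ha : a ∈ Φ.A1 S)
    (h : ∀ s, Φ.f s = s → a * X τ.good.good (τ.topR hS).rev s * a⁻¹ ∈ H) {t : K}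
    (ht : Φ.f t = t) :
    Commute (a⁻¹ * Φ.fE a) (X τ.good.good (τ.spR (τ.bI hS)).rev t) := by
  obtain ⟨v, hv, x, hx, rfl⟩ := Φ.exists_split_A1 hS ha
  have hXb : X τ.good.good (τ.spR (τ.bI hS)) x ∈ Φ.subM := Φ.X_mem_subM hθ (τ.σR_bI hS) hx
  have hv' : ∀ s, Φ.f s = s → v * X τ.good.good (τ.topR hS).rev s * v⁻¹ ∈ H := by
    intro s hs
    have := mul_mem (mul_mem (inv_mem (hM hXb)) (h s hs)) (hM hXb)
    convert this using 1
    group
  have hg := hS.gammaTop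
  generalize hC : D.commTerms S.gam (opp D S.top) = C at hg
  match C, hC, hg with
  | [(k, c, i, j)], hC, hg =>
    simp only [Bool.and_eq_true, decide_eq_true_eq, and_assoc] at hg
    obtain ⟨hk, rfl, rfl, hc⟩ := hg
    have hcK : (c : K) * c = 1 := by rw [← Int.cast_mul, hc, Int.cast_one]
    set u : K := -((c : K) * t) with hu
    have hfu : Φ.f u = u := by rw [hu, map_neg, map_mul, map_intCast, ht]
    have hne : (τ.topR hS).rev ≠ τ.gamR hS := fun e => by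
      have h2 : half D ≤ ((τ.topR hS).rev : ℕ) := e ▸ τ.gamR_pos hS
      have := (τ.rev_pos_iff _).1 h2
      have := τ.topR_pos hS
      omega
    have hne' : (τ.topR hS).rev ≠ (τ.gamR hS).rev := fun e =>
      (τ.basic' hS).2.2.2.2.2.2.2.2.2.2.2.1 (congrArg Fin.val (Fin.rev_injective e)).symm
    have hk' : D.commTerms (τ.gamR hS) (τ.topR hS).rev =
        [((((τ.spR (τ.bI hS)).rev : Root D) : ℕ), c, 1, 1)] := by
      rw [Setup.rev_val, Setup.rev_val]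
      show D.commTerms S.gam (opp D S.top) = _
      rw [hC, hk]
      rfl
    have hR := τ.comm_single hne hne' hk' (1 : K) u
    rw [show (c : K) * -1 * u = t by rw [hu]; linear_combination t * hcK] at hR
    have hG1 : X τ.good.good (τ.gamR hS) (1 : K) ∈ Φ.subM :=
      Φ.X_mem_subM hθ (τ.σR_gamR hS) (map_one _)
    have hcomm : Commute v (X τ.good.good (τ.gamR hS) (1 : K)) := τ.commute_gamR hS hv 1
    set N := X τ.good.good (τ.topR hS).rev u
    set G := X τ.good.good (τ.gamR hS) (1 : K)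
    set B := X τ.good.good (τ.spR (τ.bI hS)).rev t
    have hBH : v * B * v⁻¹ ∈ H := by
      have h2 := mul_mem (mul_mem (mul_mem (inv_mem (hv' u hfu)) (inv_mem (hM hG1))) (hv' u hfu))
        (hM hG1)
      convert h2 using 1
      rw [← hR]
      calc v * (N⁻¹ * G⁻¹ * N * G) * v⁻¹
          = v * N⁻¹ * v⁻¹ * (v * G⁻¹ * v⁻¹) * (v * N * v⁻¹) * (v * G * v⁻¹) := by group
        _ = _ := by
          rw [show v * G * v⁻¹ = G by rw [hcomm.eq, mul_inv_cancel_right],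
            show v * G⁻¹ * v⁻¹ = G⁻¹ by rw [hcomm.inv_right.eq, mul_inv_cancel_right]]
          simp only [N]
          group
    have hBM : B ∈ Φ.subM := Φ.X_mem_subM hθ (by rw [τ.σR_rev, τ.σR_bI hS]) ht
    have hw : v * B * v⁻¹ * B⁻¹ ∈ Φ.subM := by
      refine hHU (Subgroup.mem_inf.2 ⟨mul_mem hBH (inv_mem (hM hBM)), Subgroup.mem_inf.2 ⟨?_, Φ.tG_le_fix (hHG (mul_mem hBH (inv_mem (hM hBM))))⟩⟩)
      have hvc := rootGen_mono (F := K) τ.good.good (τ.Qb_subset_compl hS) hv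
      have h3 := mul_mem hvc (Φ.negb_conj_compl hS (inv_mem hvc) t)
      show v * B * v⁻¹ * B⁻¹ ∈ D.posUnipotent K
      rw [posUnipotent_eq_rootGen τ.good.good]
      have h4 := rootGen_mono (F := K) τ.good.good (T := posSet D) (fun r hr => hr.1) h3
      rwa [show v * (B * v⁻¹ * B⁻¹) = v * B * v⁻¹ * B⁻¹ by group] at h4
    have h4 := (Φ.mem_subM.1 (mul_mem hw hBM)).2
    rw [inv_mul_cancel_right, map_mul, map_mul, map_inv, (Φ.mem_subM.1 hBM).2] at h4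
    rw [map_mul, (Φ.mem_subM.1 hXb).2,
      show ∀ a b w : GL D.Idx K, (a * b)⁻¹ * (a * w) = b⁻¹ * w from fun a b w => by group]
    show v⁻¹ * Φ.fE v * B = B * (v⁻¹ * Φ.fE v)
    calc v⁻¹ * Φ.fE v * B = v⁻¹ * (Φ.fE v * B * (Φ.fE v)⁻¹) * Φ.fE v := by group
      _ = _ := by rw [h4]; group
  | [], _, hg => simp at hg
  | _ :: _ :: _, _, hg => simp at hg

/-- A rational conjugate of the lowest root group in the overgroup. -/
theorem exists_conj_low {a : GL D.Idx K} (ha : a ∈ Φ.A1 S)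
    (h : ∀ s, Φ.f s = s → a * X τ.good.good (τ.topR hS).rev s * a⁻¹ ∈ H) :
    a ∈ Φ.subM := by
  set c := a⁻¹ * Φ.fE a with hcdef
  have haG : a ∈ Φ.tG := Φ.U1_le_tG (Φ.A1_le_U1 ha)
  have hcpos : c ∈ rootGen τ.good.good K (Setup.Qs S) :=
    mul_mem (inv_mem ha.1) (Φ.fE_mem_rootGen ha.1)
  have hc1 : ∀ t, Φ.f t = t → Commute c (X τ.good.good (τ.spR (τ.bI hS)).rev t) := fun t ht =>
    Φ.commute_negb hθ hS hM hHG hHU ha h ht
  obtain ⟨w, hw1, hw2, hw3⟩ := τ.exists_wordJ hS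
  set n := Φ.nW w
  have hnM : n ∈ Φ.subM := Φ.nW_mem_subM w
  have hπ := Φ.monBy_nW w
  have ha' : n * a * n⁻¹ ∈ Φ.A1 S := Subgroup.mem_inf.2 ⟨hπ.conj_rootGen hw3 ha.1,
    mul_mem (mul_mem (Φ.nW_mem_fix w) ha.2) (inv_mem (Φ.nW_mem_fix w))⟩
  have hσna : τ.σR (τ.topR hS).rev = (τ.topR hS).rev := by rw [τ.σR_rev, τ.σR_topR hS]
  obtain ⟨-, e, he, he0, hcj⟩ := Φ.exists_conj_X hθ hnM hπ hσna
  rw [hπ.apply_rev, hw2] at hcj
  have h' : ∀ s, Φ.f s = s →
      n * a * n⁻¹ * X τ.good.good (τ.topR hS).rev s * (n * a * n⁻¹)⁻¹ ∈ H := by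
    intro s hs
    have hs' : Φ.f (e⁻¹ * s) = e⁻¹ * s := by rw [map_mul, map_inv₀, he, hs]
    have := mul_mem (mul_mem (hM hnM) (h _ hs')) (inv_mem (hM hnM))
    have e1 := hcj _ hs'
    rw [mul_inv_cancel_left₀ he0] at e1
    convert this using 1
    rw [← e1]; group
  have hc2 : ∀ t, Φ.f t = t → Commute c (X τ.good.good (τ.gamR hS).rev t) := by
    intro t ht
    obtain ⟨-, d, hd, -, hcg⟩ := Φ.exists_conj_X hθ hnM hπ
      (show τ.σR (τ.gamR hS).rev = (τ.gamR hS).rev by rw [τ.σR_rev, τ.σR_gamR hS])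
    have e2 := hcg t ht
    rw [hπ.apply_rev, hw1] at e2
    have h3 := Φ.commute_negb hθ hS hM hHG hHU ha' h' (t := d * t) (by rw [map_mul, hd, ht])
    rw [← e2, map_mul, map_mul, map_inv, (Φ.mem_subM.1 hnM).2,
      show (n * a * n⁻¹)⁻¹ * (n * Φ.fE a * n⁻¹) = n * c * n⁻¹ by rw [hcdef]; group] at h3
    exact (Commute.conj_iff n).1 h3
  have hc3 : ∀ s, Φ.f s = s → Commute c (X τ.good.good (τ.topR hS).rev s) := by
    intro s hs
    have hg := hS.gammaNeg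
    generalize hC : D.commTerms (opp D (τ.cfg.sp S.b)) (opp D S.gam) = C at hg
    match C, hC, hg with
    | [(k, z, i, j)], hC, hg =>
      simp only [Bool.and_eq_true, decide_eq_true_eq, and_assoc] at hg
      obtain ⟨hk, rfl, rfl, hz⟩ := hg
      have hzK : (z : K) * z = 1 := by rw [← Int.cast_mul, hz, Int.cast_one]
      have hne : (τ.gamR hS).rev ≠ (τ.spR (τ.bI hS)).rev := fun e =>
        (τ.basic' hS).2.2.2.2.2.2.2.2.2.2.1 (congrArg Fin.val (Fin.rev_injective e))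
      have hne' : (τ.gamR hS).rev ≠ (τ.spR (τ.bI hS)).rev.rev := fun e => by
        rw [Fin.rev_rev] at e
        have h2 : half D ≤ ((τ.gamR hS).rev : ℕ) := e ▸ τ.spR_pos _
        have := (τ.rev_pos_iff _).1 h2
        have := τ.gamR_pos hS
        omega
      have hk' : D.commTerms ((τ.spR (τ.bI hS)).rev : Root D) (τ.gamR hS).rev =
          [((((τ.topR hS).rev : Root D) : ℕ), z, 1, 1)] := by
        rw [Setup.rev_val, Setup.rev_val, Setup.rev_val]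
        show D.commTerms (opp D (τ.cfg.sp S.b)) (opp D S.gam) = _
        rw [hC, hk]
        rfl
      have hR := τ.comm_single hne hne' hk' (1 : K) (-((z : K) * s))
      rw [show (z : K) * -1 * -((z : K) * s) = s by linear_combination s * hzK] at hR
      rw [← hR]
      have h1 := hc1 1 (map_one _)
      have h2 := hc2 (-((z : K) * s)) (by rw [map_neg, map_mul, map_intCast, hs])
      exact ((h2.inv_right.mul_right h1.inv_right).mul_right h2).mul_right h1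
    | [], _, hg => simp at hg
    | _ :: _ :: _, _, hg => simp at hg
  obtain ⟨w2, hw2a, -, hw2b⟩ := τ.exists_reflTop hS
  set R := Φ.nW w2 * Φ.nO (τ.bI hS) * (Φ.nW w2)⁻¹
  have hcpos' : c ∈ D.posUnipotent K := by
    rw [posUnipotent_eq_rootGen τ.good.good]
    exact rootGen_mono _ (fun r hr => Setup.Qs_pos hr) hcpos
  have hcR : Commute c R := by
    refine Φ.commute_refl w2 (τ.bI hS) fun t ht => ⟨?_, ?_⟩
    · obtain ⟨-, d, -, -, hd⟩ := Φ.exists_conj_X hθ (Φ.nW_mem_subM w2) (Φ.monBy_nW w2)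
        (τ.σR_bI hS)
      rw [Φ.pX_bI hS, hd t ht, hw2a]
      exact τ.commute_top_pos hS hcpos' _
    · obtain ⟨-, d, hdf, -, hd⟩ := Φ.exists_conj_X hθ (Φ.nW_mem_subM w2) (Φ.monBy_nW w2)
        (show τ.σR (τ.spR (τ.bI hS)).rev = (τ.spR (τ.bI hS)).rev by rw [τ.σR_rev, τ.σR_bI hS])
      rw [Φ.pY_bI hS, hd t ht, (Φ.monBy_nW w2).apply_rev, hw2a]
      exact hc3 _ (by rw [map_mul, hdf, ht])
  have hneg : c ∈ D.negUnipotent K := by
    have h1 : R * c * R⁻¹ ∈ rootGen τ.good.good K (negSet D) :=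
      (Φ.monBy_refl w2 _).conj_rootGen (fun r hr => hw2b r hr) hcpos
    rw [show R * c * R⁻¹ = c by rw [← hcR.eq, mul_inv_cancel_right]] at h1
    rwa [negUnipotent_eq_rootGen τ.good.good]
  have h0 := ChevAut.pos_inf_neg τ.good hcpos' hneg
  exact ⟨haG, (inv_mul_eq_one.1 h0).symm⟩

/-- The descent. -/
theorem exists_conj_root : ∀ {β : Root D}, τ.σR β = β → ∀ {u : GL D.Idx K}, u ∈ Φ.U1 →
    (∀ s, Φ.f s = s → u * X τ.good.good β s * u⁻¹ ∈ H) →
    ∃ m ∈ Φ.subM, ∀ s, Φ.f s = s → ∃ s', Φ.f s' = s' ∧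
      u * X τ.good.good β s * u⁻¹ = m * X τ.good.good (τ.topR hS) s' * m⁻¹ := by
  intro β
  induction hn : (β : ℕ) using Nat.strong_induction_on generalizing β with
  | _ n ih =>
    intro hβ u hu h
    by_cases he : β = (τ.topR hS).rev
    · subst he
      obtain ⟨a, ha, j, hj, rfl⟩ := Φ.exists_A1_mul hS hu
      have he : ∀ s, a * j * X τ.good.good (τ.topR hS).rev s * (a * j)⁻¹ =
          a * X τ.good.good (τ.topR hS).rev s * a⁻¹ := fun s => by
        rw [mul_assoc a, (hj s).eq]; group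
      have haM : a ∈ Φ.subM :=
        Φ.exists_conj_low hθ hS hM hHG hHU ha fun s hs => he s ▸ h s hs
      obtain ⟨w2, -, hw2, -⟩ := τ.exists_reflTop hS
      set R := Φ.nW w2 * Φ.nO (τ.bI hS) * (Φ.nW w2)⁻¹
      have hRM : R ∈ Φ.subM := Φ.refl_mem_subM w2 _
      obtain ⟨-, d, hd, hd0, hdX⟩ := Φ.exists_conj_X hθ hRM (Φ.monBy_refl w2 _) (τ.σR_topR hS)
      rw [hw2] at hdX
      refine ⟨a * R, mul_mem haM hRM, fun s hs => ⟨d⁻¹ * s, by rw [map_mul, map_inv₀, hd, hs], ?_⟩⟩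
      have e := hdX (d⁻¹ * s) (by rw [map_mul, map_inv₀, hd, hs])
      rw [mul_inv_cancel_left₀ hd0] at e
      rw [he, ← e]; group
    · obtain ⟨o, ho, hcomm⟩ := τ.exists_lower hS hβ he
      obtain ⟨v, ⟨hv, hvf⟩, x, hx, rfl⟩ := Φ.exists_split_U1 o hu
      have hsplit : ∀ s, v * Φ.oX (τ.spR o) x * X τ.good.good β s * (v * Φ.oX (τ.spR o) x)⁻¹ =
          v * X τ.good.good β s * v⁻¹ := by
        intro s
        have hc : Commute (Φ.oX (τ.spR o) x) (X τ.good.good β s) := by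
          rw [Φ.oX_eq_orbProd]
          refine Commute.list_prod_left _ _ fun y hy => ?_
          obtain ⟨j, -, rfl⟩ := List.mem_map.1 hy
          exact τ.commute_X (hcomm _ (τ.mem_orb_iff.2 ⟨j, rfl⟩)) _ _
        rw [mul_assoc v, hc.eq]; group
      set N := Φ.nO o
      have hNM : N ∈ Φ.subM := Φ.nO_mem_subM o
      obtain ⟨hβ', c, hc, hc0, hcX⟩ := Φ.exists_conj_X hθ hNM (Φ.monBy_nO o) hβ
      have hv' : N * v * N⁻¹ ∈ Φ.U1 := by
        refine Subgroup.mem_inf.2 ⟨?_,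
          mul_mem (mul_mem (Φ.nO_mem_fix o) hvf) (inv_mem (Φ.nO_mem_fix o))⟩
        rw [posUnipotent_eq_rootGen τ.good.good]
        exact rootGen_mono _ (fun r hr => hr.1) (Φ.nO_conj_compl o hv)
      have key : ∀ s, Φ.f s = s →
          N * v * N⁻¹ * X τ.good.good (τ.wR o β) (c * s) * (N * v * N⁻¹)⁻¹ =
            N * (v * Φ.oX (τ.spR o) x * X τ.good.good β s * (v * Φ.oX (τ.spR o) x)⁻¹) * N⁻¹ := by
        intro s hs
        rw [hsplit, ← hcX s hs]; group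
      obtain ⟨m, hm, hrel⟩ := ih _ (hn ▸ ho) rfl hβ' hv' fun s hs => by
        have hs' : Φ.f (c⁻¹ * s) = c⁻¹ * s := by rw [map_mul, map_inv₀, hc, hs]
        have := key _ hs'
        rw [mul_inv_cancel_left₀ hc0] at this
        rw [this]
        exact mul_mem (mul_mem (hM hNM) (h _ hs')) (inv_mem (hM hNM))
      refine ⟨N⁻¹ * m, mul_mem (inv_mem hNM) hm, fun s hs => ?_⟩
      obtain ⟨s', hs', e⟩ := hrel (c * s) (by rw [map_mul, hc, hs])
      refine ⟨s', hs', ?_⟩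
      rw [key s hs] at e
      rw [show ∀ T : GL D.Idx K, N⁻¹ * m * T * (N⁻¹ * m)⁻¹ = N⁻¹ * (m * T * m⁻¹) * N from
        fun T => by group, ← e]
      group

/-- A conjugate of the highest root group in the overgroup is a rational one. -/
theorem exists_conj_top {g : GL D.Idx K} (hg : g ∈ Φ.tG)
    (h : ∀ s, Φ.f s = s → g * X τ.good.good (τ.topR hS) s * g⁻¹ ∈ H) :
    ∃ m ∈ Φ.subM, ∀ s, Φ.f s = s → ∃ s', Φ.f s' = s' ∧
      g * X τ.good.good (τ.topR hS) s * g⁻¹ = m * X τ.good.good (τ.topR hS) s' * m⁻¹ := by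
  obtain ⟨u, hu, n, hn, v, hv, rfl⟩ := Φ.exists_decomp hg
  obtain ⟨w, hw⟩ := Φ.exists_θ hn
  have hfix := (Φ.osize_monBy hw (Φ.M₀_le_fix hn) (τ.topR hS)).2 (τ.σR_topR hS)
  obtain ⟨c, hc⟩ := Φ.conj_oX hw (Φ.M₀_le_fix hn) (τ.topR hS)
  have hcf : Φ.f (c : K) = c := by
    have := (hc 1 (Φ.adm_one _)).1 hfix
    rwa [mul_one] at this
  have key : ∀ s, Φ.f s = s → u * n * v * X τ.good.good (τ.topR hS) s * (u * n * v)⁻¹ =
      u * X τ.good.good (τ.θ w (τ.topR hS)) ((c : K) * s) * u⁻¹ := by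
    intro s hs
    rw [mul_assoc (u * n), (τ.commute_top_pos hS hv.1 s).eq,
      ← Φ.oX_eq_X (τ.σR_topR hS), ← Φ.oX_eq_X hfix, ← (hc s (Φ.adm_of_fixed _ hs)).2]
    group
  obtain ⟨m, hm, hrel⟩ := Φ.exists_conj_root hθ hS hM hHG hHU hfix hu fun s hs => by
    have hs' : Φ.f ((c : K)⁻¹ * s) = (c : K)⁻¹ * s := by rw [map_mul, map_inv₀, hcf, hs]
    have := key _ hs'
    rw [mul_inv_cancel_left₀ c.ne_zero] at this
    exact this ▸ h _ hs'
  refine ⟨m, hm, fun s hs => ?_⟩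
  obtain ⟨s', hs', e⟩ := hrel ((c : K) * s) (by rw [map_mul, hcf, hs])
  exact ⟨s', hs', (key s hs).trans e⟩

end FieldTwist

end CfsgLib.GraphTwist
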