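import Cfsg.Agent.GraphTwistAut.Node
import Cfsg.Agent.ChevAut.Kinds

/-!
# The entrywise field map on a twisted group and its fixed points
-/

set_option autoImplicit false
set_option maxHeartbeats 400000

namespace CfsgLib.GraphTwist

open Cfsg.Lie CfsgLib.Chevalley CfsgLib.Twisted
open scoped MatrixGroups

namespace FieldTwist

variable {D : ChevalleyDatum} {τ : Setup D} {K : Type*} [Field K] (Φ : FieldTwist τ K)

/-- The field map on the entries of a matrix. -/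
def fE : GL D.Idx K →* GL D.Idx K := ChevAut.glMap D Φ.f

/-- The elements of the twisted group with all entries fixed by the field map. -/
def subM : Subgroup (GL D.Idx K) := Φ.tG ⊓ Φ.fE.eqLocus (MonoidHom.id _)

theorem mem_subM {g : GL D.Idx K} : g ∈ Φ.subM ↔ g ∈ Φ.tG ∧ Φ.fE g = g := Iff.rfl

theorem fE_apply (g : GL D.Idx K) (i j : D.Idx) :
    (Φ.fE g : Matrix D.Idx D.Idx K) i j = Φ.f ((g : Matrix D.Idx D.Idx K) i j) := rfl

theorem fE_X (r : Root D) (t : K) :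
    Φ.fE (X τ.good.good r t) = X τ.good.good r (Φ.f t) :=
  ChevAut.glMap_X τ.good Φ.f r t

theorem tw_f (j : ℕ) (r : Root D) (t : K) : Φ.tw j r (Φ.f t) = Φ.f (Φ.tw j r t) := by
  induction j with
  | zero => rfl
  | succ j ih => rw [tw, tw, map_mul, map_intCast, ih]

theorem fE_oX (r : Root D) (t : K) : Φ.fE (Φ.oX r t) = Φ.oX r (Φ.f t) := by
  rw [oX, oX, map_list_prod, List.map_map]
  refine congrArg List.prod (List.map_congr_left fun j _ => ?_)
  rw [Function.comp_apply, Ψ_pow_X, Ψ_pow_X, fE_X, tw_f]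

theorem Adm.map {Φ : FieldTwist τ K} {r : Root D} {t : K} (h : Φ.Adm r t) : Φ.Adm r (Φ.f t) :=
  fun e => congrArg Φ.f (h e)

theorem adm_of_fixed (r : Root D) {t : K} (ht : Φ.f t = t) : Φ.Adm r t := fun _ => ht

theorem fE_mem_tG {g : GL D.Idx K} (hg : g ∈ Φ.tG) : Φ.fE g ∈ Φ.tG := by
  induction hg using Subgroup.closure_induction with
  | mem x hx =>
    obtain ⟨o, b, t, ht, rfl⟩ := hx
    rw [fE_oX]
    exact Subgroup.subset_closure ⟨o, b, _, ht.map, rfl⟩
  | one => rw [map_one]; exact one_mem _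
  | mul x y _ _ hx hy => rw [map_mul]; exact mul_mem hx hy
  | inv x _ hx => rw [map_inv]; exact inv_mem hx

/-- An orbit element with fixed parameter. -/
theorem fE_oX_fixed (r : Root D) {t : K} (ht : Φ.f t = t) : Φ.fE (Φ.oX r t) = Φ.oX r t := by
  rw [fE_oX, ht]

theorem fE_nO (o : Fin τ.cfg.m) : Φ.fE (Φ.nO o) = Φ.nO o := by
  rw [← Φ.nO_eq_prod o, map_mul, map_mul, fE_oX_fixed Φ _ (map_one _),
    fE_oX_fixed Φ _ (by rw [map_neg, map_one])]

theorem nO_mem_subM (o : Fin τ.cfg.m) : Φ.nO o ∈ Φ.subM := ⟨Φ.nO_mem_tG o, Φ.fE_nO o⟩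

theorem oX_eq_X {r : Root D} (h : τ.σR r = r) (t : K) : Φ.oX r t = X τ.good.good r t := by
  simp [oX, τ.osize_eq, h]

variable [Finite K] (hθ : τ.Faithful)
include hθ

/-- All orbit elements are in the twisted group. -/
theorem oX_mem_tG' (r : Root D) {t : K} (ht : Φ.Adm r t) : Φ.oX r t ∈ Φ.tG := by
  by_cases hr : half D ≤ (r : ℕ)
  · exact Φ.U1_le_tG (Φ.oX_mem_U1 hr ht)
  · exact Φ.V1_le_tG hθ (Φ.oX_mem_V1 (not_le.1 hr) ht)

theorem oX_mem_subM (r : Root D) {t : K} (ht : Φ.f t = t) : Φ.oX r t ∈ Φ.subM :=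
  ⟨Φ.oX_mem_tG' hθ r (Φ.adm_of_fixed r ht), Φ.fE_oX_fixed r ht⟩

theorem X_mem_subM {r : Root D} (hr : τ.σR r = r) {t : K} (ht : Φ.f t = t) :
    X τ.good.good r t ∈ Φ.subM := by
  rw [← Φ.oX_eq_X hr]; exact Φ.oX_mem_subM hθ r ht

theorem oX_long_mem_subM {r : Root D} (hr : τ.σR r = r) {t : K} (ht : Φ.Adm r t) :
    Φ.oX r t ∈ Φ.subM :=
  Φ.oX_mem_subM hθ r (ht hr)

omit hθ in
/-- A positive orbit element fixed by the field map has fixed parameter. -/
theorem fixed_of_oX_eq {r : Root D} (hr : half D ≤ (r : ℕ)) {t : K}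
    (h : Φ.fE (Φ.oX r t) = Φ.oX r t) : Φ.f t = t := by
  rw [fE_oX] at h; exact Φ.oX_injective hr h

end FieldTwist

end CfsgLib.GraphTwist
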