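import Cfsg.Agent.GraphTwistSub.Normal

/-!
# The rational points of a twisted group form a maximal subgroup
-/

set_option autoImplicit false
set_option maxHeartbeats 400000

namespace CfsgLib.GraphTwist

open Cfsg.Lie CfsgLib.Chevalley CfsgLib.Twisted CfsgLib.GraphTwistAut
open scoped MatrixGroups

namespace Setup

variable {D : ChevalleyDatum} (τ : Setup D) {S : SubData} (hS : τ.cfg.SubValid S)
include hS

theorem exists_trans {o : Fin τ.cfg.m} (ho : τ.σR (τ.spR o) ≠ τ.spR o) (b : Bool) :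
    ∃ w : List (Fin τ.cfg.m), FieldTwist.sdR τ b o ∈ τ.orb (τ.wP w (τ.rsR hS)) := by
  have := List.all_eq_true.1 hS.transs o (List.mem_range.2 o.2)
  simp only [Bool.or_eq_true, decide_eq_true_eq] at this
  have hb := List.all_eq_true.1 (this.resolve_left fun e => ho (Fin.ext e)) b (by cases b <;> simp)
  simp only [List.any_eq_true] at hb
  obtain ⟨⟨o', b', w⟩, -, hc⟩ := hb
  simp only [Cfg.transOk, Bool.and_eq_true, decide_eq_true_eq, List.contains_iff_mem,
    and_assoc] at hc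
  obtain ⟨-, -, hw, horb⟩ := hc
  obtain ⟨w', rfl⟩ := τ.exists_word hw
  refine ⟨w', τ.mem_orbN_iff.1 ?_⟩
  have e1 : (FieldTwist.sdR τ b o : ℕ) = τ.cfg.sdI o b := by
    cases b
    · rfl
    · exact Setup.rev_val _
  rw [e1, τ.wP_val]
  exact horb

/-- The orbit of nodes whose torus scales the top orbit. -/
def snI : Fin τ.cfg.m := ⟨S.sn, (τ.basic' hS).2.2.2.2.2.2.2.2.2.2.2.2.2⟩

omit hS in
/-- The exponent of the torus of an orbit of nodes at a root. -/
abbrev expo (o : Fin τ.cfg.m) (r : Root D) : ℤ :=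
  ((τ.cfg.nodes.getD (o : ℕ) []).map fun i => D.cartan i (r : ℕ)).sum

theorem expo_snI : τ.expo (τ.snI hS) (τ.rsR hS) * τ.expo (τ.snI hS) (τ.rsR hS) = 1 := by
  have := hS.scale
  simp only [decide_eq_true_eq] at this
  exact this

end Setup

namespace FieldTwist

variable {D : ChevalleyDatum} {τ : Setup D} {K : Type*} [Field K] (Φ : FieldTwist τ K)

theorem prod_hT_conj_X (L : List (Fin D.rank)) (a : Kˣ) (r : Root D) (t : K) :
    (L.map fun i => (hT K (pRoot τ.good i) a : GL D.Idx K)).prod * X τ.good.good r t *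
        (L.map fun i => (hT K (pRoot τ.good i) a : GL D.Idx K)).prod⁻¹ =
      X τ.good.good r
        (((a ^ (L.map fun i : Fin D.rank => D.cartan (i : ℕ) (r : ℕ)).sum : Kˣ) : K) * t) := by
  induction L generalizing t with
  | nil => simp
  | cons i L ih =>
    simp only [List.map_cons, List.prod_cons, List.sum_cons, zpow_add, Units.val_mul]
    rw [show ∀ x P y : GL D.Idx K, x * P * y * (x * P)⁻¹ = x * (P * y * P⁻¹) * x⁻¹ from
      fun x P y => by group, ih, hT_pRoot_conj_X, mul_assoc]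

variable [Finite K] (hθ : τ.Faithful)
include hθ

/-- The rational torus scales an orbit group. -/
theorem oX_scale_mem {H : Subgroup (GL D.Idx K)} (hM : Φ.subM ≤ H) {r : Root D}
    {o : Fin τ.cfg.m} {s : ℤ}
    (hs : ((τ.cfg.nodes.getD (o : ℕ) []).map fun i => D.cartan i (r : ℕ)).sum = s)
    (hss : s * s = 1) {l x : K} (hl : Φ.f l = l) (hx : Φ.oX r x ∈ H) :
    Φ.oX r (l * x) ∈ H := by
  by_cases hl0 : l = 0
  · rw [hl0, zero_mul, oX_zero]; exact one_mem _
  set a : Kˣ := Units.mk0 l hl0 ^ s with ha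
  have hfa : Φ.f (a : K) = a := by
    rw [ha, Units.val_zpow_eq_zpow_val, map_zpow₀, Units.val_mk0, hl]
  have hfU : ∀ j, Φ.fU^[j] a = a := fun j =>
    Function.iterate_fixed (Units.ext hfa) j
  have hh : Φ.oH (τ.spR o) a ∈ Φ.subM := by
    have e := Φ.oX_oY_oX o a
    rw [eq_mul_inv_of_mul_eq e.symm]
    have hX := Φ.oX_mem_subM hθ (τ.spR o) hfa
    have hY := Φ.oX_mem_subM hθ (τ.spR o).rev (t := -((a⁻¹ : Kˣ) : K))
      (by rw [map_neg, Units.val_inv_eq_inv_val, map_inv₀, hfa])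
    exact mul_mem (mul_mem (mul_mem hX hY) hX) (inv_mem (Φ.nO_mem_subM o))
  set h := Φ.oH (τ.spR o) a with hh0
  have hprod : h = ((τ.nlist o).map fun i => (hT K (pRoot τ.good i) a : GL D.Idx K)).prod := by
    rw [hh0, oH, Setup.nlist, List.map_map]
    exact congrArg List.prod (List.map_congr_left fun j _ => by
      rw [Function.comp_apply, Φ.Ψ_pow_hT, τ.σR_pow_pRoot, hfU])
  have hsum : ((τ.nlist o).map fun i : Fin D.rank => D.cartan (i : ℕ) (r : ℕ)).sum = s := by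
    rw [← hs, ← τ.nlist_map_val o, List.map_map]
    rfl
  have hconj : h * Φ.oX r x * h⁻¹ = Φ.oX r (l * x) := by
    rw [oX, oX, ← MulAut.conj_apply, map_list_prod, List.map_map]
    refine congrArg List.prod (List.map_congr_left fun j _ => ?_)
    rw [Function.comp_apply, MulAut.conj_apply]
    conv_lhs => rw [← Φ.pow_apply_fix (Φ.subM_le_fix hh) j, ← map_inv, ← map_mul, ← map_mul]
    rw [hprod, prod_hT_conj_X (τ := τ), hsum, ha, ← zpow_mul, hss, zpow_one, Units.val_mk0]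
  rw [← hconj]
  exact mul_mem (mul_mem (hM hh) hx) (inv_mem (hM hh))

variable (hA : τ.cfg.AutValid) {S : SubData} (hS : τ.cfg.SubValid S)
include hA hS

omit hA in
theorem rsR_scale_mem {H : Subgroup (GL D.Idx K)} (hM : Φ.subM ≤ H) {l x : K} (hl : Φ.f l = l)
    (hx : Φ.oX (τ.rsR hS) x ∈ H) : Φ.oX (τ.rsR hS) (l * x) ∈ H :=
  Φ.oX_scale_mem hθ hM (o := τ.snI hS) rfl (τ.expo_snI hS) hl hx

/-- The rational points are maximal. -/
theorem subM_maximal (hne : ∃ x : K, Φ.f x ≠ x)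
    (hspan : ∀ H : Subgroup (GL D.Idx K), Φ.subM ≤ H → H ≤ Φ.tG → ∀ x, Φ.f x ≠ x →
      Φ.oX (τ.rsR hS) x ∈ H → ∀ y, Φ.oX (τ.rsR hS) y ∈ H) :
    Φ.subM ≠ Φ.tG ∧ ∀ H : Subgroup (GL D.Idx K), Φ.subM ≤ H → H ≤ Φ.tG →
      H = Φ.subM ∨ H = Φ.tG := by
  refine ⟨fun e => ?_, fun H hM hHG => ?_⟩
  · obtain ⟨x, hx⟩ := hne
    have hm : Φ.oX (τ.spR ⟨0, τ.valid.m_pos⟩) x ∈ Φ.subM :=
      e ▸ Φ.oX_mem_tG _ fun h => absurd h (τ.first_moved hA)
    exact hx (Φ.fixed_of_oX_eq (τ.spR_pos _) (Φ.mem_subM.1 hm).2)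
  by_cases hcase : ∀ x, Φ.oX (τ.rsR hS) x ∈ H → Φ.f x = x
  · exact Or.inl (le_antisymm
      (Φ.le_subM hθ hA hS hM hHG (Φ.inf_U1_le hθ hS hM hHG hcase)) hM)
  push Not at hcase
  obtain ⟨x, hx, hfx⟩ := hcase
  refine Or.inr (le_antisymm hHG ((Subgroup.closure_le _).2 ?_))
  rintro _ ⟨o, b, y, hy, rfl⟩
  by_cases ho : τ.σR (τ.spR o) = τ.spR o
  · refine hM (Φ.oX_mem_subM hθ _ (hy ?_))
    cases b
    · exact ho
    · show τ.σR (τ.spR o).rev = (τ.spR o).rev
      rw [τ.σR_rev, ho]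
  obtain ⟨w, hw⟩ := τ.exists_trans hS ho b
  obtain ⟨j, c, -, hc0, htr⟩ := Φ.exists_transport hθ (Φ.nW_mem_subM w) (Φ.monBy_nW w) hw
  obtain ⟨t, ht⟩ := (Φ.f.surjective.iterate j) (c⁻¹ * y)
  obtain ⟨-, e⟩ := htr t fun h => absurd h (τ.σR_rsR hS)
  rw [ht, mul_inv_cancel_left₀ hc0] at e
  rw [SetLike.mem_coe, ← e]
  exact mul_mem (mul_mem (hM (Φ.nW_mem_subM w)) (hspan H hM hHG x hfx hx t))
    (inv_mem (hM (Φ.nW_mem_subM w)))

omit hθ hA hS [Finite K] in
/-- The statement's form of the maximality. -/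
theorem maximal_of_eq {q : ℕ} (hF : ∀ x, Φ.f x = x ^ q) {G M : Subgroup (GL D.Idx K)}
    (hG : G = Φ.tG)
    (hM : ∀ g : GL D.Idx K, g ∈ M ↔ g ∈ G ∧ ∀ i j : D.Idx,
      ((g : Matrix D.Idx D.Idx K) i j) ^ q = (g : Matrix D.Idx D.Idx K) i j)
    (h : Φ.subM ≠ Φ.tG ∧ ∀ H : Subgroup (GL D.Idx K), Φ.subM ≤ H → H ≤ Φ.tG →
      H = Φ.subM ∨ H = Φ.tG) :
    M ≠ G ∧ ∀ H : Subgroup (GL D.Idx K), M ≤ H → H ≤ G → H = M ∨ H = G := by
  have e : M = Φ.subM := by
    ext g
    rw [hM, mem_subM, hG]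
    refine and_congr_right fun _ => ⟨fun hh => Units.ext (Matrix.ext fun i j => ?_),
      fun hh i j => ?_⟩
    · rw [fE_apply, hF, hh]
    · rw [← hF, ← fE_apply, hh]
  rw [e, hG]
  exact h

omit hθ hA hS in
/-- An additive subgroup closed under fixed scalars, containing `1` and a moved element, is
everything in the quadratic case. -/
theorem all_of_quadratic {q : ℕ} (hfix : Nat.card {x : K // Φ.f x = x} = q)
    (hK : Nat.card K = q ^ 2) {P : K → Prop} (hadd : ∀ a b, P a → P b → P (a + b))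
    (hsmul : ∀ l a, Φ.f l = l → P a → P (l * a)) (h1 : P 1) {x : K} (hx : Φ.f x ≠ x)
    (hPx : P x) : ∀ y, P y := by
  let φ : {x : K // Φ.f x = x} × {x : K // Φ.f x = x} → {y : K // P y} := fun p =>
    ⟨p.1.1 + p.2.1 * x, hadd _ _ (by simpa using hsmul _ _ p.1.2 h1) (hsmul _ _ p.2.2 hPx)⟩
  have hφ : Function.Injective φ := by
    rintro ⟨⟨a, ha⟩, ⟨b, hb⟩⟩ ⟨⟨a', ha'⟩, ⟨b', hb'⟩⟩ e
    have e' : a + b * x = a' + b' * x := congrArg Subtype.val e
    by_cases hbb : b = b'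
    · subst hbb
      obtain rfl : a = a' := add_right_cancel e'
      rfl
    · exfalso
      have hxe : x = (a' - a) / (b - b') := by
        rw [eq_div_iff (sub_ne_zero.2 hbb)]; linear_combination e'
      exact hx (by rw [hxe, map_div₀, map_sub, map_sub, ha, ha', hb, hb'])
  have hle := Nat.card_le_card_of_injective φ hφ
  rw [Nat.card_prod, hfix, ← sq, ← hK] at hle
  intro y
  obtain ⟨⟨z, hz⟩, e⟩ :=
    (Subtype.val_injective.bijective_of_nat_card_le (α := {y : K // P y}) hle).2 y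
  exact (show z = y from e) ▸ hz

omit hθ hA hS in
/-- The same in the cubic case, with the square. -/
theorem all_of_cubic {q : ℕ} (hfix : Nat.card {x : K // Φ.f x = x} = q)
    (hK : Nat.card K = q ^ 3) (hk : τ.cfg.k = 3) {P : K → Prop}
    (hadd : ∀ a b, P a → P b → P (a + b))
    (hsmul : ∀ l a, Φ.f l = l → P a → P (l * a)) (h1 : P 1) {x : K} (hx : Φ.f x ≠ x)
    (hPx : P x) (hPxx : P (x * x)) : ∀ y, P y := by
  let F := {x : K // Φ.f x = x}
  let φ : F × F × F → {y : K // P y} := fun p =>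
    ⟨p.1.1 + p.2.1.1 * x + p.2.2.1 * (x * x),
      hadd _ _ (hadd _ _ (by simpa using hsmul _ _ p.1.2 h1) (hsmul _ _ p.2.1.2 hPx))
        (hsmul _ _ p.2.2.2 hPxx)⟩
  have hper : Φ.f (Φ.f (Φ.f x)) = x := by
    have := Φ.periodic x
    rwa [hk] at this
  have hne' : Φ.f (Φ.f x) ≠ Φ.f x := fun e => hx (Φ.f.injective e)
  have hlin : ∀ a b c, Φ.f a = a → Φ.f b = b → Φ.f c = c → a + b * x + c * (x * x) = 0 →
      a = 0 ∧ b = 0 ∧ c = 0 := by
    intro a b c ha hb hc e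
    have e1 := congrArg Φ.f e
    simp only [map_add, map_mul, ha, hb, hc, map_zero] at e1
    have e2 := congrArg Φ.f e1
    simp only [map_add, map_mul, ha, hb, hc, map_zero] at e2
    have d1 : b + c * (Φ.f x + x) = 0 := by
      refine mul_left_cancel₀ (sub_ne_zero.2 hx) ?_
      linear_combination e1 - e
    have d2 : b + c * (Φ.f (Φ.f x) + Φ.f x) = 0 := by
      refine mul_left_cancel₀ (sub_ne_zero.2 hne') ?_
      linear_combination e2 - e1
    have hne2 : Φ.f (Φ.f x) - x ≠ 0 := sub_ne_zero.2 fun e' => hx (by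
      have := congrArg Φ.f e'
      rw [hper] at this
      exact this.symm)
    obtain rfl : c = 0 := by
      refine mul_left_cancel₀ hne2 ?_
      linear_combination d2 - d1
    obtain rfl : b = 0 := by simpa using d1
    exact ⟨by simpa using e, rfl, rfl⟩
  have hφ : Function.Injective φ := by
    rintro ⟨⟨a, ha⟩, ⟨b, hb⟩, ⟨c, hc⟩⟩ ⟨⟨a', ha'⟩, ⟨b', hb'⟩, ⟨c', hc'⟩⟩ e
    have e' : a + b * x + c * (x * x) = a' + b' * x + c' * (x * x) := congrArg Subtype.val e
    obtain ⟨h1', h2', h3'⟩ := hlin (a - a') (b - b') (c - c') (by rw [map_sub, ha, ha'])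
      (by rw [map_sub, hb, hb']) (by rw [map_sub, hc, hc']) (by linear_combination e')
    obtain rfl : a = a' := sub_eq_zero.1 h1'
    obtain rfl : b = b' := sub_eq_zero.1 h2'
    obtain rfl : c = c' := sub_eq_zero.1 h3'
    rfl
  have hle := Nat.card_le_card_of_injective φ hφ
  rw [Nat.card_prod, Nat.card_prod, hfix, show q * (q * q) = q ^ 3 by ring, ← hK] at hle
  intro y
  obtain ⟨⟨z, hz⟩, e⟩ :=
    (Subtype.val_injective.bijective_of_nat_card_le (α := {y : K // P y}) hle).2 y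
  exact (show z = y from e) ▸ hz

omit hθ hA hS in
theorem exists_moved {q k : ℕ} (hq : 2 ≤ q) (hk : 2 ≤ k)
    (hfix : Nat.card {x : K // Φ.f x = x} = q) (hK : Nat.card K = q ^ k) :
    ∃ x : K, Φ.f x ≠ x := by
  by_contra h
  push Not at h
  rw [Nat.card_congr (Equiv.subtypeUnivEquiv h), hK] at hfix
  have : q ^ 1 < q ^ k := Nat.pow_lt_pow_right hq hk
  rw [pow_one] at this
  omega

end FieldTwist

end CfsgLib.GraphTwist
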