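import Cfsg.Agent.GraphTwistSub.Descent
import Cfsg.Agent.ChevTorus.Order

/-!
# An overgroup meeting `U` rationally is rational
-/

set_option autoImplicit false
set_option maxHeartbeats 400000

namespace CfsgLib.GraphTwist

open Cfsg.Lie CfsgLib.Chevalley CfsgLib.Twisted CfsgLib.GraphTwistAut
open scoped MatrixGroups

namespace Setup

variable {D : ChevalleyDatum} (τ : Setup D) {S : SubData} (hS : τ.cfg.SubValid S)
include hS

theorem exists_refl {o : Fin τ.cfg.m} (ho : τ.σR (τ.spR o) ≠ τ.spR o) (b : Bool) :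
    ∃ (w : List (Fin τ.cfg.m)) (r : Root D), r ∈ Setup.Qs S ∧
      FieldTwist.sdR τ b o ∈ τ.orb (τ.wP (w ++ τ.bI hS :: w.reverse) r) := by
  have := List.all_eq_true.1 hS.refls o (List.mem_range.2 o.2)
  simp only [Bool.or_eq_true, decide_eq_true_eq] at this
  have hb := List.all_eq_true.1 (this.resolve_left fun e => ho (Fin.ext e)) b (by cases b <;> simp)
  simp only [List.any_eq_true] at hb
  obtain ⟨⟨o', b', w, r⟩, -, hc⟩ := hb
  simp only [Cfg.reflOk, Bool.and_eq_true, decide_eq_true_eq, List.contains_iff_mem,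
    and_assoc] at hc
  obtain ⟨-, -, hw, hr, hrQ, horb⟩ := hc
  obtain ⟨w', rfl⟩ := τ.exists_word hw
  refine ⟨w', ⟨r, hr⟩, hrQ, τ.mem_orbN_iff.1 ?_⟩
  have e1 : (FieldTwist.sdR τ b o : ℕ) = τ.cfg.sdI o b := by
    cases b
    · rfl
    · exact Setup.rev_val _
  rw [e1, τ.wP_val, List.map_append, List.map_cons, List.map_reverse]
  exact horb

end Setup

namespace FieldTwist

variable {D : ChevalleyDatum} {τ : Setup D} {K : Type*} [Field K] (Φ : FieldTwist τ K)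

/-- A monomial element keeping `v X_o(x)` in the Borel subgroup keeps `o` positive. -/
theorem spR_pos_of_conj {m : GL D.Idx K} (hm : m ∈ Φ.M₀) {π : Equiv.Perm (Root D)}
    (hπ : MonBy τ.good m π) {o : Fin τ.cfg.m} {v : GL D.Idx K}
    (hv : v ∈ rootGen τ.good.good K (τ.compl o)) {x : K} (hx : Φ.Adm (τ.spR o) x) (hx0 : x ≠ 0)
    (h : m * (v * Φ.pX o x) * m⁻¹ ∈ D.borelSubgroup K) :
    half D ≤ (π (τ.spR o) : ℕ) := by
  by_contra hn
  set n := Φ.nO o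
  set m' := m * n⁻¹ with hm'
  have hm'M : m' ∈ Φ.M₀ := mul_mem hm (inv_mem (Φ.nO_mem_M₀ o))
  have hπ' : MonBy τ.good m' (π * (τ.wR o)⁻¹) := hπ.mul (Φ.monBy_nO o).inv
  have hpos : half D ≤ ((π * (τ.wR o)⁻¹) (τ.spR o) : ℕ) := by
    rw [Equiv.Perm.mul_apply, τ.wR_inv, τ.wR_orb (τ.self_mem_orb _), hπ.apply_rev]
    exact (τ.rev_pos_iff _).2 (not_le.1 hn)
  set B := Units.mk0 (-x) (neg_ne_zero.2 hx0)
  have hB : Φ.AdmU (τ.spR o) B := Φ.admU_iff.2 hx.neg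
  set s : K := ((B⁻¹ : Kˣ) : K)
  obtain ⟨v1, hv1, he⟩ := Φ.exists_move (inv_mem hm'M) (π := π * (τ.wR o)⁻¹)
    (by rw [inv_inv]; exact hπ') hpos (Φ.admU_iff.1 (Φ.admU_inv hB))
  have hhH : Φ.oH (τ.spR o) (-B⁻¹) ∈ Φ.H₀ := by
    refine Φ.oH_mem (Φ.admU_iff.2 ?_)
    rw [Units.val_neg]
    exact (Φ.admU_iff.1 (Φ.admU_inv hB)).neg
  set hh := Φ.oH (τ.spR o) (-B⁻¹)
  have e1 : n * Φ.pX o x * n⁻¹ = Φ.pX o s * (hh * n) * Φ.pX o s := by
    rw [Φ.nO_conj_pX, show (-x : K) = (B : K) from rfl, Φ.oY_eq]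
  have hb : n * v * n⁻¹ * Φ.pX o s * hh ∈ D.borelSubgroup K := by
    refine mul_mem (mul_mem (pos_le_borel D ?_) (pos_le_borel D (Φ.oX_mem_pos (τ.spR_pos o) s)))
      (diag_le_borel D (Φ.H₀_le_diag hhH))
    rw [posUnipotent_eq_rootGen τ.good.good]
    exact rootGen_mono _ (fun r hr => hr.1) (Φ.nO_conj_compl o hv)
  have he' : Φ.pX o s * m'⁻¹ = m'⁻¹ * v1 := he
  have key : n * v * n⁻¹ * Φ.pX o s * hh * (n * m'⁻¹) * 1 =
      1 * m'⁻¹ * (m * (v * Φ.pX o x) * m⁻¹ * v1⁻¹) := by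
    calc n * v * n⁻¹ * Φ.pX o s * hh * (n * m'⁻¹) * 1
        = n * v * n⁻¹ * (Φ.pX o s * (hh * n) * Φ.pX o s) * ((Φ.pX o s)⁻¹ * m'⁻¹) := by group
      _ = n * v * n⁻¹ * (n * Φ.pX o x * n⁻¹) * ((Φ.pX o s)⁻¹ * m'⁻¹) := by rw [e1]
      _ = n * v * n⁻¹ * (n * Φ.pX o x * n⁻¹) * (m'⁻¹ * v1⁻¹) := by
        rw [show (Φ.pX o s)⁻¹ * m'⁻¹ = m'⁻¹ * v1⁻¹ by
          rw [inv_mul_eq_iff_eq_mul, ← mul_assoc, he', mul_inv_cancel_right]]
      _ = _ := by rw [hm']; group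
  have h2 := perm_eq_of_borel (τ := τ)
    (mul_mem (Φ.nO_mem_monomial o) (inv_mem (Φ.M₀_le_monomial hm'M)))
    (inv_mem (Φ.M₀_le_monomial hm'M)) ((Φ.monBy_nO o).mul hπ'.inv) hπ'.inv hb (one_mem _)
    (one_mem _) (mul_mem h (inv_mem (pos_le_borel D hv1.1))) key
  exact nO_perm_ne_one o (mul_eq_right.1 h2)

variable [Finite K] (hθ : τ.Faithful)
include hθ

theorem mem_B1_of_commute {c : GL D.Idx K} (hc : c ∈ Φ.tG)
    (h : ∀ o, ∃ y, Φ.Adm (τ.spR o) y ∧ y ≠ 0 ∧ Commute c (Φ.pX o y)) : c ∈ Φ.B1 := by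
  obtain ⟨u, hu, m, hm, v, hv, rfl⟩ := Φ.exists_decomp hc
  obtain ⟨w, hw⟩ := Φ.exists_θ hm
  have h1 : τ.θ w = 1 := Φ.perm_eq_one_of_pos hm hw fun o => by
    obtain ⟨y, hy, hy0, hcy⟩ := h o
    obtain ⟨v1, ⟨hv1, -⟩, a, ha, hva⟩ := Φ.exists_split_U1 o hv
    set X' := Φ.pX o y
    have hXpos : X' ∈ D.posUnipotent K := Φ.oX_mem_pos (τ.spR_pos o) y
    have h2 : v1 * (X' * v1⁻¹ * X'⁻¹) ∈ rootGen τ.good.good K (τ.compl o) :=
      mul_mem hv1 ((Subgroup.mem_normalizer_iff.1 (τ.pos_le_normalizer_compl o hXpos) _).1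
        (inv_mem hv1))
    refine Φ.spR_pos_of_conj hm hw h2 hy hy0 ?_
    have hcomm : Φ.pX o a * X' * (Φ.pX o a)⁻¹ = X' := by
      simp only [X', pX]
      rw [oX_inv, oX_mul, oX_mul, show a + y + -a = y by ring]
    have e : v * X' * v⁻¹ = v1 * (X' * v1⁻¹ * X'⁻¹) * X' := by
      calc v * X' * v⁻¹ = v1 * (Φ.pX o a * X' * (Φ.pX o a)⁻¹) * v1⁻¹ := by rw [hva]; group
        _ = _ := by rw [hcomm]; group
    have h3 : u⁻¹ * X' * u ∈ D.borelSubgroup K :=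
      pos_le_borel D (mul_mem (mul_mem (inv_mem hu.1) hXpos) hu.1)
    rw [← e]
    convert h3 using 1
    calc m * (v * X' * v⁻¹) * m⁻¹ = u⁻¹ * (u * m * v * X') * (u * m * v)⁻¹ * u := by group
      _ = _ := by rw [hcy.eq]; group
  exact mul_mem (mul_mem (Subgroup.mem_sup_left hu)
    (Subgroup.mem_sup_right (Φ.mem_H₀_of_monBy_one hθ hm (h1 ▸ hw)))) (Subgroup.mem_sup_left hv)

variable (hA : τ.cfg.AutValid)
include hA

/-- What commutes with an element of each fundamental orbit group and of its opposite is trivial. -/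
theorem eq_one_of_commute {c : GL D.Idx K} (hc : c ∈ Φ.tG)
    (h : ∀ o b, ∃ y, Φ.Adm (τ.spR o) y ∧ y ≠ 0 ∧ Commute c (Φ.oX (sdR τ b o) y)) : c = 1 := by
  have hB := Φ.mem_B1_of_commute hθ hc fun o => h o false
  obtain ⟨n, hn, ⟨π, hnπ, hπ⟩, hsw⟩ := Φ.exists_swap hθ hA
  have hnG := Φ.M₀_le_tG hn
  have hB' : n * c * n⁻¹ ∈ Φ.B1 := by
    refine Φ.mem_B1_of_commute hθ (mul_mem (mul_mem hnG hc) (inv_mem hnG)) fun o => ?_
    obtain ⟨y, hy, hy0, hcy⟩ := h o true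
    obtain ⟨s, hs, e⟩ := (hsw o y hy).1
    refine ⟨s, hs, ?_, ?_⟩
    · rintro rfl
      rw [pX, oX_zero, conj_eq_one_iff] at e
      exact Φ.pY_ne_one o hy hy0 e
    · rw [← e]; exact (Commute.conj_iff n).2 hcy
  obtain ⟨u, hu, k, hk, rfl⟩ := Φ.mem_B1_iff.1 hB
  have hu1 : u = 1 := by
    have h1 : n * u * n⁻¹ ∈ Φ.B1 := by
      have hk' : n * k * n⁻¹ ∈ Φ.B1 :=
        Subgroup.mem_sup_right (Φ.conj_H₀ hnπ (Φ.M₀_le_fix hn) hk)
      have := mul_mem hB' (inv_mem hk')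
      convert this using 1
      group
    have h2 := Φ.flips_conj_U1 hnπ hπ (Φ.M₀_le_fix hn) hu
    have h3 : n * u * n⁻¹ ∈ D.borelSubgroup K ⊓ D.negUnipotent K := ⟨Φ.B1_le_borel h1, h2.1⟩
    rw [borel_inf_neg τ.good, Subgroup.mem_bot] at h3
    exact conj_eq_one_iff.1 h3
  subst hu1
  obtain ⟨cc, hcc, rfl⟩ := hk
  rw [one_mul] at h ⊢
  show torC D cc = 1
  rw [ChevTorus.torC_eq_one_iff τ.good]
  funext i
  show ChevSimple.chi cc (pRoot τ.good i : Root D) = 1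
  have hhead : ∀ o, ChevSimple.chi cc (τ.spR o) = 1 := by
    intro o
    obtain ⟨y, hy, hy0, hcy⟩ := h o false
    have e : torC D cc * Φ.oX (τ.spR o) y * (torC D cc)⁻¹ = Φ.oX (τ.spR o) y :=
      mul_inv_eq_iff_eq_mul.2 hcy.eq
    rw [Φ.torC_conj_oX hcc] at e
    exact Units.ext (mul_right_cancel₀ hy0
      ((Φ.oX_injective (τ.spR_pos o) e).trans (one_mul y).symm))
  obtain ⟨o, ho⟩ := τ.exists_mem_nlist i
  obtain ⟨j, -, rfl⟩ := List.mem_map.1 ho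
  rw [← τ.σR_pow_pRoot]
  clear ho
  induction j with
  | zero => exact hhead o
  | succ j ih => rw [pow_succ', Equiv.Perm.mul_apply, Φ.chi_twist hcc, ih, fU_one]

variable {S : SubData} (hS : τ.cfg.SubValid S)
variable {H : Subgroup (GL D.Idx K)} (hM : Φ.subM ≤ H) (hHG : H ≤ Φ.tG)
  (hHU : H ⊓ Φ.U1 ≤ Φ.subM)
include hS hM hHG hHU

/-- An element of the overgroup normalising the highest root group is rational. -/
theorem mem_subM_of_normalizes {g : GL D.Idx K} (hg : g ∈ H)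
    (h : ∀ s, Φ.f s = s → ∃ s', Φ.f s' = s' ∧
      g * X τ.good.good (τ.topR hS) s * g⁻¹ = X τ.good.good (τ.topR hS) s') :
    g ∈ Φ.subM := by
  have hgG := hHG hg
  obtain ⟨u, hu, n, hn, v, hv, hdec⟩ := Φ.exists_decomp hgG
  obtain ⟨w, hw⟩ := Φ.exists_θ hn
  set π := τ.θ w
  have htop : π (τ.topR hS) = τ.topR hS := by
    obtain ⟨c, hc⟩ := hw.conj_X (τ.topR hS)
    obtain ⟨s', -, e⟩ := h 1 (map_one _)
    by_contra hne
    refine X_ne τ.good.toGoodUni hne (mul_ne_zero c.ne_zero (one_ne_zero (α := K))) s' ?_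
    rw [← hdec, mul_assoc (u * n), (τ.commute_top_pos hS hv.1 1).eq] at e
    calc X τ.good.good (π (τ.topR hS)) ((c : K) * 1)
        = u⁻¹ * (u * n * (X τ.good.good (τ.topR hS) 1 * v) * (u * n * v)⁻¹) * u := by
          rw [← hc]; group
      _ = u⁻¹ * (X τ.good.good (τ.topR hS) s' * u) := by rw [e]; group
      _ = _ := by rw [← (τ.commute_top_pos hS hu.1 s').eq, inv_mul_cancel_left]
  have hna : π (τ.topR hS).rev = (τ.topR hS).rev := by rw [hw.apply_rev, htop]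
  have hQ : ∀ r ∈ Setup.Qs S, π r ∈ Setup.Qs S := by
    intro r hr
    rw [τ.mem_Qs_iff hS] at hr ⊢
    by_cases hrt : r = τ.topR hS
    · exact Or.inl (by rw [hrt, htop])
    obtain ⟨hpos, k, z, hz, hterms⟩ := (τ.noncomm' hS hrt).resolve_left (hr.resolve_left hrt)
    refine Or.inr fun hempty => ?_
    have hne1 : π r ≠ τ.topR hS := fun e => hrt (π.injective (e.trans htop.symm))
    have hcom : ∀ t u : K, Commute (X τ.good.good (π r) t) (X τ.good.good (τ.topR hS).rev u) :=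
      τ.commute_X (Or.inr ⟨fun e => hne1 (Fin.rev_injective e.symm), hempty⟩)
    obtain ⟨c1, hc1⟩ := hw.conj_X r
    obtain ⟨c2, hc2⟩ := hw.conj_X (τ.topR hS).rev
    have h0 : Commute (X τ.good.good r (1 : K)) (X τ.good.good (τ.topR hS).rev (1 : K)) := by
      refine (Commute.conj_iff n).1 ?_
      rw [hc1, hc2, hna]
      exact hcom _ _
    have hR := τ.comm_single
      (fun e => by
        have h2 : half D ≤ ((τ.topR hS).rev : ℕ) := e.symm ▸ hpos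
        have := (τ.rev_pos_iff _).1 h2
        have := τ.topR_pos hS
        omega)
      (fun e => hrt (Fin.rev_injective e).symm) hterms (1 : K) 1
    rw [mul_assoc, ← h0.eq] at hR
    have h1 : X τ.good.good k ((z : K) * -1 * 1) = X τ.good.good k 0 := by
      rw [← hR, X_zero]; group
    have h2 := X_injective τ.good.good _ h1
    have hzK : (z : K) * z = 1 := by rw [← Int.cast_mul, hz, Int.cast_one]
    simp only [mul_one, mul_neg, neg_eq_zero] at h2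
    rw [h2, zero_mul] at hzK
    exact zero_ne_one hzK
  have hconjA : ∀ a ∈ Φ.A1 S, g * a * g⁻¹ ∈ Φ.A1 S := by
    intro a ha
    refine Subgroup.mem_inf.2 ⟨?_, mul_mem (mul_mem (Φ.tG_le_fix hgG) ha.2)
      (inv_mem (Φ.tG_le_fix hgG))⟩
    have h1 := (Subgroup.mem_normalizer_iff.1 (τ.pos_le_normalizer_Qs hS hv.1) a).1 ha.1
    have h2 := (Subgroup.mem_normalizer_iff.1 (τ.pos_le_normalizer_Qs hS hu.1) _).1
      (hw.conj_rootGen hQ h1)
    rw [← hdec]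
    convert h2 using 1
    group
  set c := g⁻¹ * Φ.fE g with hcdef
  have hcG : c ∈ Φ.tG := mul_mem (inv_mem hgG) (Φ.fE_mem_tG hgG)
  have hcomm : ∀ z, z ∈ Φ.subM → g * z * g⁻¹ ∈ Φ.subM → Commute c z := by
    intro z hz hgz
    have e := (Φ.mem_subM.1 hgz).2
    rw [map_mul, map_mul, map_inv, (Φ.mem_subM.1 hz).2] at e
    show c * z = z * c
    calc c * z = g⁻¹ * (Φ.fE g * z * (Φ.fE g)⁻¹) * Φ.fE g := by rw [hcdef]; group
      _ = _ := by rw [e, hcdef]; group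
  have hcA : ∀ r ∈ Setup.Qs S, Commute c (Φ.oX r 1) := by
    intro r hr
    have hA1 : Φ.oX r 1 ∈ Φ.A1 S :=
      ⟨rootGen_mono _ (fun a ha => (τ.Qs_orb hS ha).2 hr) (Φ.oX_mem_rootGen r 1),
        Φ.oX_mem_fix (Φ.adm_one r)⟩
    have hzM := Φ.oX_mem_subM hθ r (map_one Φ.f)
    refine hcomm _ hzM (hHU (Subgroup.mem_inf.2 ⟨?_, Φ.A1_le_U1 (hconjA _ hA1)⟩))
    exact mul_mem (mul_mem hg (hM hzM)) (inv_mem hg)
  have hclong : ∀ δ, τ.σR δ = δ → ∀ t, Φ.f t = t → Commute c (X τ.good.good δ t) := by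
    intro δ hδ t ht
    obtain ⟨wd, hwd⟩ := τ.exists_word_top hS hδ
    set m := Φ.nW wd
    have hmM : m ∈ Φ.subM := Φ.nW_mem_subM wd
    obtain ⟨-, d, hd, hd0, hdX⟩ := Φ.exists_conj_X hθ hmM (Φ.monBy_nW wd) (τ.σR_topR hS)
    rw [hwd] at hdX
    have hgm : ∀ s, Φ.f s = s →
        g * m * X τ.good.good (τ.topR hS) s * (g * m)⁻¹ ∈ H := by
      intro s hs
      rw [show g * m * X τ.good.good (τ.topR hS) s * (g * m)⁻¹ =
        g * (m * X τ.good.good (τ.topR hS) s * m⁻¹) * g⁻¹ by group, hdX s hs]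
      exact mul_mem (mul_mem hg (hM (Φ.X_mem_subM hθ hδ (by rw [map_mul, hd, hs])))) (inv_mem hg)
    obtain ⟨m', hm', hrel⟩ := Φ.exists_conj_top hθ hS hM hHG hHU
      (mul_mem hgG (Φ.nW_mem_subM wd).1) hgm
    have hdt : Φ.f (d⁻¹ * t) = d⁻¹ * t := by rw [map_mul, map_inv₀, hd, ht]
    obtain ⟨s', hs', e⟩ := hrel _ hdt
    refine hcomm _ (Φ.X_mem_subM hθ hδ ht) ?_
    rw [show g * m * X τ.good.good (τ.topR hS) (d⁻¹ * t) * (g * m)⁻¹ =
      g * (m * X τ.good.good (τ.topR hS) (d⁻¹ * t) * m⁻¹) * g⁻¹ by group, hdX _ hdt,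
      mul_inv_cancel_left₀ hd0] at e
    rw [e]
    exact mul_mem (mul_mem hm' (Φ.X_mem_subM hθ (τ.σR_topR hS) hs')) (inv_mem hm')
  have hc1 : c = 1 := by
    refine Φ.eq_one_of_commute hθ hA hcG fun o b => ?_
    by_cases ho : τ.σR (τ.spR o) = τ.spR o
    · have hδ : τ.σR (sdR τ b o) = sdR τ b o := by
        cases b
        · exact ho
        · show τ.σR (τ.spR o).rev = (τ.spR o).rev
          rw [τ.σR_rev, ho]
      refine ⟨1, Φ.adm_one _, one_ne_zero, ?_⟩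
      rw [Φ.oX_eq_X hδ]
      exact hclong _ hδ 1 (map_one _)
    · obtain ⟨wd, r, hr, horb⟩ := τ.exists_refl hS ho b
      set R := Φ.nW wd * Φ.nO (τ.bI hS) * (Φ.nW wd)⁻¹
      have hcR : Commute c R := by
        refine Φ.commute_refl wd (τ.bI hS) fun t ht => ⟨?_, ?_⟩
        · obtain ⟨h1, d, hd, -, hdX⟩ := Φ.exists_conj_X hθ (Φ.nW_mem_subM wd) (Φ.monBy_nW wd)
            (τ.σR_bI hS)
          rw [Φ.pX_bI hS, hdX t ht]
          exact hclong _ h1 _ (by rw [map_mul, hd, ht])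
        · obtain ⟨h1, d, hd, -, hdX⟩ := Φ.exists_conj_X hθ (Φ.nW_mem_subM wd) (Φ.monBy_nW wd)
            (show τ.σR (τ.spR (τ.bI hS)).rev = (τ.spR (τ.bI hS)).rev by rw [τ.σR_rev, τ.σR_bI hS])
          rw [Φ.pY_bI hS, hdX t ht]
          exact hclong _ h1 _ (by rw [map_mul, hd, ht])
      obtain ⟨j, e, he, he0, htr⟩ := Φ.exists_transport hθ (Φ.refl_mem_subM wd _)
        (Φ.monBy_refl wd _) horb
      obtain ⟨-, h2⟩ := htr 1 (Φ.adm_one r)
      rw [Function.iterate_fixed (map_one Φ.f) j, mul_one] at h2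
      refine ⟨e, Φ.adm_of_fixed _ he, he0, ?_⟩
      rw [← h2]
      exact (hcR.mul_right (hcA r hr)).mul_right hcR.inv_right
  exact ⟨hgG, (inv_mul_eq_one.1 hc1).symm⟩

/-- The overgroup is rational. -/
theorem le_subM : H ≤ Φ.subM := by
  intro x hx
  obtain ⟨m, hm, hrel⟩ := Φ.exists_conj_top hθ hS hM hHG hHU (hHG hx) fun s hs =>
    mul_mem (mul_mem hx (hM (Φ.X_mem_subM hθ (τ.σR_topR hS) hs))) (inv_mem hx)
  have hg : m⁻¹ * x ∈ Φ.subM := by
    refine Φ.mem_subM_of_normalizes hθ hA hS hM hHG hHU (mul_mem (inv_mem (hM hm)) hx)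
      fun s hs => ?_
    obtain ⟨s', hs', e⟩ := hrel s hs
    refine ⟨s', hs', ?_⟩
    calc m⁻¹ * x * X τ.good.good (τ.topR hS) s * (m⁻¹ * x)⁻¹
        = m⁻¹ * (x * X τ.good.good (τ.topR hS) s * x⁻¹) * m := by group
      _ = _ := by rw [e]; group
  simpa using mul_mem hm hg

end FieldTwist

end CfsgLib.GraphTwist
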