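import Cfsg.Agent.GraphTwistSub.Chk
import Cfsg.Agent.GraphTwistSub.Coord

/-!
# The roots not orthogonal to the highest root
-/

set_option autoImplicit false
set_option maxHeartbeats 400000

namespace CfsgLib.GraphTwist

open Cfsg.Lie CfsgLib.Chevalley CfsgLib.Twisted
open scoped MatrixGroups

namespace Setup

variable {D : ChevalleyDatum} (τ : Setup D) {K : Type*} [Field K]

include τ in
theorem ne_rev_of_pos {a g : Root D} (ha : half D ≤ (a : ℕ)) (hg : half D ≤ (g : ℕ)) :
    g ≠ a.rev := fun e => by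
  rw [e] at hg
  have := (τ.rev_pos_iff a).1 hg
  omega

/-- Root elements with no terms in the commutator formula commute. -/
theorem commute_X {a g : Root D} (h : a = g ∨ g ≠ a.rev ∧ D.commTerms a g = []) (t u : K) :
    Commute (X τ.good.good a t) (X τ.good.good g u) := by
  rcases eq_or_ne a g with rfl | hne
  · rw [Commute, SemiconjBy, X_mul, X_mul, add_comm]
  obtain ⟨h1, h2⟩ := h.resolve_left hne
  have := X_comm τ.good.toGoodComm a g hne.symm h1 t u
  rw [commRhs, h2] at this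
  simpa [wordGL, Commute, SemiconjBy] using this.symm

/-- The commutator formula with one term. -/
theorem comm_single {r s k : Root D} {c : ℤ} (hsr : s ≠ r) (hne : s ≠ r.rev)
    (h : D.commTerms r s = [((k : ℕ), c, 1, 1)]) (t u : K) :
    (X τ.good.good s u)⁻¹ * (X τ.good.good r t)⁻¹ * X τ.good.good s u * X τ.good.good r t =
      X τ.good.good k ((c : K) * (-t) * u) := by
  rw [show ∀ a b : GL D.Idx K, a⁻¹ * b⁻¹ * a * b = (b * a)⁻¹ * (a * b) from fun a b => by group,
    X_comm τ.good.toGoodComm r s hsr hne t u, inv_mul_cancel_left, commRhs, h, wordGL]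
  simp [k.2]

/-- Root subgroups normalise a set of positive roots closed under adding their roots. -/
theorem X_mem_normalizer_rootGen {S : Set (Root D)} {s : Root D} (hs : half D ≤ (s : ℕ))
    (hS : S ⊆ posSet D)
    (h : ∀ r ∈ S, ∀ c ∈ D.commTerms r s, ∃ hc : c.1 < D.nroots, (⟨c.1, hc⟩ : Root D) ∈ S)
    (v : K) :
    X τ.good.good s v ∈
      Subgroup.normalizer (rootGen τ.good.good K S : Set (GL D.Idx K)) := by
  have key : ∀ (v : K) (n i : ℕ), τ.norb ≤ i + n →
      ∀ {g : GL D.Idx K}, g ∈ rootGen τ.good.good K (τ.tailSet i ∩ S) →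
      X τ.good.good s v * g * (X τ.good.good s v)⁻¹ ∈
        rootGen τ.good.good K (τ.tailSet i ∩ S) := by
    intro v n
    induction n with
    | zero =>
      intro i hi g hg
      have h0 := τ.uT_anti (K := K) (show τ.norb ≤ i by omega)
        (rootGen_mono _ Set.inter_subset_left hg)
      rw [τ.uT_norb, Subgroup.mem_bot] at h0
      simp [h0]
    | succ n ih =>
      intro i hi g hg
      refine (rootGen_le τ.good.good (K := (rootGen τ.good.good K (τ.tailSet i ∩ S)).comap
        (MulAut.conj (X τ.good.good s v)).toMonoidHom) fun r hr t => ?_) hg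
      show X τ.good.good s v * X τ.good.good r t * (X τ.good.good s v)⁻¹ ∈
        rootGen τ.good.good K (τ.tailSet i ∩ S)
      rcases eq_or_ne s r with rfl | hne
      · rw [X_mul, X_inv, X_mul, show v + t + -v = t by ring]
        exact X_mem_rootGen _ hr t
      rw [X_comm τ.good.toGoodComm r s hne (τ.ne_rev_of_pos hr.1.1 hs) t v,
        show ∀ p q W : GL D.Idx K, p * q * W * q⁻¹ = p * (q * W * q⁻¹) from
          fun p q W => by group]
      refine mul_mem (X_mem_rootGen _ hr t) (rootGen_mono _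
        (fun a (ha : a ∈ τ.tailSet (i + 1) ∩ S) =>
          (⟨⟨ha.1.1, (Nat.le_succ i).trans ha.1.2⟩, ha.2⟩ : a ∈ τ.tailSet i ∩ S))
        (ih (i + 1) (by omega) (Subgroup.list_prod_mem _ fun x hx => ?_)))
      simp only [List.map_map, List.mem_map, Function.comp_apply] at hx
      obtain ⟨c, hc, rfl⟩ := hx
      obtain ⟨h1, hm⟩ := h r hr.2 c hc
      obtain ⟨-, h2, h3, -, -⟩ := τ.valid.step' τ.good.good r.2 hr.1.1 s.2 hs c hc
      rw [dif_pos h1]
      exact X_mem_rootGen _ (S := τ.tailSet (i + 1) ∩ S)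
        ⟨⟨h2, show i + 1 ≤ τ.cfg.orbPos c.1 by have := hr.1.2; omega⟩, hm⟩ _
  have hset : τ.tailSet 0 ∩ S = S :=
    Set.inter_eq_right.2 fun r hr => ⟨hS hr, Nat.zero_le _⟩
  have h1 : ∀ (v : K) g, g ∈ rootGen τ.good.good K S →
      X τ.good.good s v * g * (X τ.good.good s v)⁻¹ ∈ rootGen τ.good.good K S := fun v g hg => by
    have := key v τ.norb 0 (by omega) (g := g) (by rw [hset]; exact hg)
    rwa [hset] at this
  refine Subgroup.mem_normalizer_iff.2 fun g => ⟨h1 v g, fun hg => ?_⟩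
  have := h1 (-v) _ hg
  rwa [← X_inv, show ∀ q h : GL D.Idx K, q⁻¹ * (q * h * q⁻¹) * q⁻¹⁻¹ = h from
    fun q h => by group] at this

theorem eq_one_of_compl_orb {o : Fin τ.cfg.m} (Φ : FieldTwist τ K) {z : GL D.Idx K}
    (h1 : z ∈ rootGen τ.good.good K (τ.compl o))
    (h2 : z ∈ rootGen τ.good.good K {b | b ∈ τ.orb (τ.spR o)}) : z = 1 := by
  have hpos : Φ.nO o * z * (Φ.nO o)⁻¹ ∈ D.posUnipotent K := by
    rw [posUnipotent_eq_rootGen τ.good.good]
    exact rootGen_mono _ (fun r hr => hr.1) (Φ.nO_conj_compl o h1)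
  have hneg : Φ.nO o * z * (Φ.nO o)⁻¹ ∈ D.negUnipotent K := by
    rw [negUnipotent_eq_rootGen τ.good.good]
    refine (Φ.monBy_nO o).conj_rootGen (fun r hr => ?_) h2
    show (τ.wR o r : ℕ) < half D
    rw [τ.wR_orb hr]
    exact (τ.rev_pos_iff r.rev).1 (by rw [Fin.rev_rev]; exact τ.orb_spR_pos hr)
  exact conj_eq_one_iff.1 (ChevAut.pos_inf_neg τ.good hpos hneg)

variable {S : SubData} (hS : τ.cfg.SubValid S)
include hS

theorem basic' :
    S.b < τ.cfg.m ∧ τ.cfg.S.σf (τ.cfg.sp S.b) = τ.cfg.sp S.b ∧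
      Cfg.inQ (D := D) S (τ.cfg.sp S.b) = true ∧ S.top < D.nroots ∧ half D ≤ S.top ∧
      τ.cfg.S.σf S.top = S.top ∧ S.gam < D.nroots ∧ Cfg.inQ (D := D) S S.gam = true ∧
      τ.cfg.S.σf S.gam = S.gam ∧ τ.cfg.sp S.b ≠ S.top ∧ S.gam ≠ τ.cfg.sp S.b ∧ S.gam ≠ S.top ∧
      S.pS < τ.cfg.reps.length ∧ S.sn < τ.cfg.m := by
  have := hS.basic
  simpa only [Bool.and_eq_true, decide_eq_true_eq, and_assoc] using this

/-- The orbit of the node `b`. -/
def bI : Fin τ.cfg.m := ⟨S.b, (τ.basic' hS).1⟩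

/-- The highest root. -/
def topR : Root D := ⟨S.top, (τ.basic' hS).2.2.2.1⟩

/-- The highest root less the root of `b`. -/
def gamR : Root D := ⟨S.gam, (τ.basic' hS).2.2.2.2.2.2.1⟩

theorem topR_pos : half D ≤ (τ.topR hS : ℕ) := (τ.basic' hS).2.2.2.2.1

theorem σR_topR : τ.σR (τ.topR hS) = τ.topR hS := Fin.ext (τ.basic' hS).2.2.2.2.2.1

theorem σR_bI : τ.σR (τ.spR (τ.bI hS)) = τ.spR (τ.bI hS) := Fin.ext (τ.basic' hS).2.1

theorem σR_gamR : τ.σR (τ.gamR hS) = τ.gamR hS := Fin.ext (τ.basic' hS).2.2.2.2.2.2.2.2.1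

omit hS in
/-- The positive roots not orthogonal to the highest root. -/
def Qs (S : SubData) : Set (Root D) := {r | Cfg.inQ (D := D) S (r : ℕ) = true}

omit hS in
/-- These roots other than that of `b`. -/
def Qb (S : SubData) : Set (Root D) := {r | r ∈ Setup.Qs S ∧ (r : ℕ) ≠ τ.cfg.sp S.b}

omit hS in
theorem Qs_pos {r : Root D} (h : r ∈ Setup.Qs (D := D) S) : half D ≤ (r : ℕ) := by
  simp only [Qs, Set.mem_ofPred_eq, Cfg.inQ, Bool.and_eq_true, decide_eq_true_eq] at h
  exact h.1

theorem bI_mem_Qs : τ.spR (τ.bI hS) ∈ Setup.Qs S := (τ.basic' hS).2.2.1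

theorem gamR_mem_Qs : τ.gamR hS ∈ Setup.Qs S := (τ.basic' hS).2.2.2.2.2.2.2.1

theorem gamR_pos : half D ≤ (τ.gamR hS : ℕ) := Qs_pos (τ.gamR_mem_Qs hS)

theorem Qs_σR {r : Root D} : τ.σR r ∈ Setup.Qs S ↔ r ∈ Setup.Qs S := by
  have := List.all_eq_true.1 hS.stable r (List.mem_range.2 r.2)
  simp only [decide_eq_true_eq] at this
  simp only [Qs, Set.mem_ofPred_eq, σR_val, this]

theorem Qs_orb {r a : Root D} (ha : a ∈ τ.orb r) : a ∈ Setup.Qs S ↔ r ∈ Setup.Qs S := by
  obtain ⟨j, rfl⟩ := τ.mem_orb_iff.1 ha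
  clear ha
  induction j with
  | zero => exact Iff.rfl
  | succ j ih => rw [pow_succ', Equiv.Perm.mul_apply, τ.Qs_σR hS, ih]

theorem ideal' {r s : Root D} (hr : r ∈ Setup.Qs S) (hs : half D ≤ (s : ℕ)) :
    ∀ c ∈ D.commTerms r s,
      ∃ hc : c.1 < D.nroots, (⟨c.1, hc⟩ : Root D) ∈ τ.Qb S := by
  have h2 := τ.good.good.two_half
  have hr' := Qs_pos hr
  have := List.all_eq_true.1 hS.ideal r (List.mem_range'_1.2 ⟨hr', by omega⟩)
  simp only [Bool.or_eq_true, Bool.not_eq_true', show Cfg.inQ (D := D) S r = true from hr,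
    Bool.true_eq_false, false_or] at this
  intro c hc
  have := List.all_eq_true.1
    (List.all_eq_true.1 this s (List.mem_range'_1.2 ⟨hs, by omega⟩)) c hc
  simp only [Bool.and_eq_true, decide_eq_true_eq, and_assoc] at this
  exact ⟨this.1, this.2.1, this.2.2⟩

/-- `U` normalises the group of these roots. -/
theorem pos_le_normalizer_Qs :
    D.posUnipotent K ≤
      Subgroup.normalizer (rootGen τ.good.good K (Setup.Qs S) : Set (GL D.Idx K)) := by
  rw [posUnipotent_eq_rootGen τ.good.good]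
  exact rootGen_le _ fun s hs v => τ.X_mem_normalizer_rootGen hs (fun _ h => Qs_pos h)
    (fun r hr c hc => by
      obtain ⟨h1, h2⟩ := τ.ideal' hS hr hs c hc
      exact ⟨h1, h2.1⟩) v

/-- `U` normalises the group of these roots without `b`. -/
theorem pos_le_normalizer_Qb :
    D.posUnipotent K ≤
      Subgroup.normalizer (rootGen τ.good.good K (τ.Qb S) : Set (GL D.Idx K)) := by
  rw [posUnipotent_eq_rootGen τ.good.good]
  exact rootGen_le _ fun s hs v => τ.X_mem_normalizer_rootGen hs (fun _ h => Qs_pos h.1)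
    (fun r hr c hc => τ.ideal' hS hr.1 hs c hc) v

omit hS in
theorem Qb_subset_compl (hS : τ.cfg.SubValid S) : τ.Qb S ⊆ τ.compl (τ.bI hS) := fun r hr =>
  ⟨Qs_pos hr.1, fun h => by
    obtain ⟨j, e⟩ := τ.mem_orb_iff.1 h
    rw [τ.σR_pow_fixed (τ.σR_bI hS)] at e
    exact hr.2 (by rw [← e]; rfl)⟩

/-- The highest root is central in `U`. -/
theorem commute_topR {r : Root D} (hr : half D ≤ (r : ℕ)) (t u : K) :
    Commute (X τ.good.good r t) (X τ.good.good (τ.topR hS) u) := by
  have h2 := τ.good.good.two_half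
  have := List.all_eq_true.1 hS.central r (List.mem_range'_1.2 ⟨hr, by omega⟩)
  simp only [Bool.or_eq_true, decide_eq_true_eq, List.isEmpty_iff] at this
  exact τ.commute_X
    (this.imp (fun e => Fin.ext e) fun e => ⟨τ.ne_rev_of_pos hr (τ.topR_pos hS), e⟩) t u

theorem commute_top_pos {v : GL D.Idx K} (hv : v ∈ D.posUnipotent K) (u : K) :
    Commute v (X τ.good.good (τ.topR hS) u) := by
  rw [posUnipotent_eq_rootGen τ.good.good] at hv
  exact Subgroup.mem_centralizer_singleton_iff.1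
    ((rootGen_le τ.good.good (K := Subgroup.centralizer {X τ.good.good (τ.topR hS) u})
      fun r hr t => Subgroup.mem_centralizer_singleton_iff.2 (τ.commute_topR hS hr t u)) hv)

/-- The group of these roots without `b` commutes with `gam`. -/
theorem commute_gamR {v : GL D.Idx K} (hv : v ∈ rootGen τ.good.good K (τ.Qb S)) (u : K) :
    Commute v (X τ.good.good (τ.gamR hS) u) := by
  refine Subgroup.mem_centralizer_singleton_iff.1
    ((rootGen_le τ.good.good (K := Subgroup.centralizer {X τ.good.good (τ.gamR hS) u})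
      fun r hr t => Subgroup.mem_centralizer_singleton_iff.2 (τ.commute_X ?_ t u)) hv)
  have h2 := τ.good.good.two_half
  have hr' := Qs_pos hr.1
  have h3 := List.all_eq_true.1 hS.gamma r (List.mem_range'_1.2 ⟨hr', by omega⟩)
  simp only [Bool.or_eq_true, decide_eq_true_eq, List.isEmpty_iff, Bool.not_eq_true',
    show Cfg.inQ (D := D) S r = true from hr.1, Bool.true_eq_false, false_or] at h3
  rcases h3 with (e | e) | e
  · exact absurd e hr.2
  · exact Or.inl (Fin.ext e)
  · exact Or.inr ⟨τ.ne_rev_of_pos hr' (τ.gamR_pos hS), e⟩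

/-- A root other than the highest one commutes with the lowest one or adds to it. -/
theorem noncomm' {r : Root D} (hne : r ≠ τ.topR hS) :
    D.commTerms r (τ.topR hS).rev = [] ∨
      half D ≤ (r : ℕ) ∧ ∃ (k : Root D) (c : ℤ),
        c * c = 1 ∧ D.commTerms r (τ.topR hS).rev = [((k : ℕ), c, 1, 1)] := by
  rw [Setup.rev_val, show ((τ.topR hS : Root D) : ℕ) = S.top from rfl]
  have := List.all_eq_true.1 hS.noncomm r (List.mem_range.2 r.2)
  simp only [Bool.or_eq_true, decide_eq_true_eq] at this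
  have h := this.resolve_left fun e => hne (Fin.ext e)
  generalize hC : D.commTerms (r : ℕ) (opp D S.top) = C at h ⊢
  match C, h with
  | [], _ => exact Or.inl rfl
  | [(k, c, a, b)], h =>
    simp only [Bool.and_eq_true, decide_eq_true_eq, and_assoc] at h
    obtain ⟨h1, h2, rfl, rfl, h3⟩ := h
    exact Or.inr ⟨h1, ⟨k, h2⟩, c, h3, rfl⟩
  | _ :: _ :: _, h => simp at h

omit hS in
theorem mem_Qs_iff (hS : τ.cfg.SubValid S) {r : Root D} :
    r ∈ Setup.Qs S ↔ r = τ.topR hS ∨ D.commTerms r (τ.topR hS).rev ≠ [] := by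
  constructor
  · intro h
    simp only [Qs, Set.mem_ofPred_eq, Cfg.inQ, Bool.and_eq_true, Bool.or_eq_true,
      decide_eq_true_eq, Bool.not_eq_true', List.isEmpty_eq_false_iff] at h
    refine h.2.imp (fun e => Fin.ext e) fun e => ?_
    rw [Setup.rev_val]
    exact e
  · intro h
    have hp : half D ≤ (r : ℕ) := by
      rcases h with rfl | h
      · exact τ.topR_pos hS
      · by_cases e : r = τ.topR hS
        · exact e ▸ τ.topR_pos hS
        · exact ((τ.noncomm' hS e).resolve_left h).1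
    simp only [Qs, Set.mem_ofPred_eq, Cfg.inQ, Bool.and_eq_true, Bool.or_eq_true,
      decide_eq_true_eq, Bool.not_eq_true', List.isEmpty_eq_false_iff]
    refine ⟨hp, h.imp (fun e => congrArg Fin.val e) fun e => ?_⟩
    rw [Setup.rev_val] at e
    exact e

end Setup

end CfsgLib.GraphTwist
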