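import Cfsg.Agent.GraphTwistSub.Comm
import Cfsg.Agent.GraphTwistSub.Sets

/-!
# An overgroup meeting the top orbit of several roots rationally meets `U` rationally
-/

set_option autoImplicit false
set_option maxHeartbeats 400000

namespace CfsgLib.GraphTwist

open Cfsg.Lie CfsgLib.Chevalley CfsgLib.Twisted
open scoped MatrixGroups

namespace Setup

variable {D : ChevalleyDatum} (τ : Setup D) {S : SubData} (hS : τ.cfg.SubValid S)
include hS

/-- The place of the highest orbit of several roots. -/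
def pSI : Fin τ.norb := ⟨S.pS, (τ.basic' hS).2.2.2.2.2.2.2.2.2.2.2.2.1⟩

/-- Its representative. -/
def rsR : Root D := τ.rep (τ.pSI hS)

theorem σR_rsR : τ.σR (τ.rsR hS) ≠ τ.rsR hS := by
  have := hS.topShort
  simp only [decide_eq_true_eq] at this
  exact fun e => this (congrArg Fin.val e)

theorem rsR_pos : half D ≤ (τ.rsR hS : ℕ) := τ.rep_pos _

theorem σR_rep_of_gt {i : Fin τ.norb} (h : S.pS < i) : τ.σR (τ.rep i) = τ.rep i := by
  have hi : (i : ℕ) < τ.cfg.reps.length := i.2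
  have := List.all_eq_true.1 hS.top i (List.mem_range'_1.2 ⟨h.le, by omega⟩)
  simp only [Bool.or_eq_true, decide_eq_true_eq] at this
  exact Fin.ext (this.resolve_left (Nat.ne_of_gt h))

theorem exists_step {i : Fin τ.norb} (h : (i : ℕ) < S.pS) (hi : τ.σR (τ.rep i) ≠ τ.rep i) :
    ∃ (j p : Fin τ.norb) (z : Root D), (i : ℕ) < p ∧ z ∈ τ.orb (τ.rep p) ∧
      (∀ a ∈ τ.orb (τ.rep i), ∀ g ∈ τ.orb (τ.rep j), τ.cfg.chkPair p (a : ℕ) g = true) ∧
      (∀ s : Root D, half D ≤ (s : ℕ) → (i : ℕ) < τ.cfg.orbPos s → ∀ g ∈ τ.orb (τ.rep j),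
        τ.cfg.chkPair (p + 1) (s : ℕ) g = true) ∧
      Cfg.goodE τ.cfg.k (τ.cfg.stepE (τ.rep i) (τ.rep j) z) = true := by
  have := List.all_eq_true.1 hS.steps i (List.mem_range.2 h)
  simp only [Bool.or_eq_true, decide_eq_true_eq, List.any_eq_true] at this
  obtain ⟨⟨i', j, p, z⟩, -, hc⟩ := this.resolve_left fun e => hi (Fin.ext e)
  simp only [Cfg.stepOk, Bool.and_eq_true, decide_eq_true_eq, List.contains_iff_mem,
    and_assoc] at hc
  obtain ⟨rfl, hip, hj, hp, hz, h1, h2, h3⟩ := hc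
  have hzn : z < D.nroots := by
    have hm : z ∈ (τ.orb (τ.rep ⟨p, hp⟩)).map Fin.val := by rw [τ.orb_map_val]; exact hz
    obtain ⟨a, -, rfl⟩ := List.mem_map.1 hm
    exact a.2
  refine ⟨⟨j, hj⟩, ⟨p, hp⟩, ⟨z, hzn⟩, hip, τ.mem_orbN_iff.1 hz, τ.chkPair_orb h1,
    fun s hs hsi g hg => ?_, h3⟩
  have h2' := τ.good.good.two_half
  have := List.all_eq_true.1 h2 s (List.mem_range'_1.2 ⟨hs, by omega⟩)
  simp only [Bool.or_eq_true, decide_eq_true_eq, List.all_eq_true] at this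
  exact this.resolve_left (by omega) g (τ.mem_orbN_iff.2 hg)

end Setup

namespace FieldTwist

variable {D : ChevalleyDatum} {τ : Setup D} {K : Type*} [Field K] (Φ : FieldTwist τ K)
variable [Finite K] (hθ : τ.Faithful) {S : SubData} (hS : τ.cfg.SubValid S)
include hθ hS

theorem u1_le_subM_of_gt {i : ℕ} (hi : S.pS < i) : Φ.u1 i ≤ Φ.subM := by
  suffices H : ∀ n i, i + n = τ.norb → S.pS < i → Φ.u1 i ≤ Φ.subM by
    rcases le_or_gt i τ.norb with h | h
    · exact H (τ.norb - i) i (by omega) hi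
    · intro g hg
      have := τ.uT_anti (K := K) h.le hg.1
      rw [τ.uT_norb, Subgroup.mem_bot] at this
      rw [this]; exact one_mem _
  intro n
  induction n with
  | zero =>
    intro i hi _ g hg
    have := τ.uT_anti (K := K) (show τ.norb ≤ i by omega) hg.1
    rw [τ.uT_norb, Subgroup.mem_bot] at this
    rw [this]; exact one_mem _
  | succ n ih =>
    intro i hi hp g hg
    obtain ⟨x, hx, b, hb, rfl⟩ := Φ.exists_split_u1 ⟨i, by omega⟩ hg
    exact mul_mem (Φ.oX_long_mem_subM hθ (τ.σR_rep_of_gt hS hp) hx)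
      (ih (i + 1) (by omega) (by omega) hb)

variable {H : Subgroup (GL D.Idx K)} (hM : Φ.subM ≤ H) (hHG : H ≤ Φ.tG)
  (hrs : ∀ x, Φ.oX (τ.rsR hS) x ∈ H → Φ.f x = x)
include hM hHG hrs

/-- The positive unipotent elements of the overgroup are rational. -/
theorem inf_U1_le : H ⊓ Φ.U1 ≤ Φ.subM := by
  suffices hmain : ∀ n i, i + n = τ.norb → ∀ g ∈ H, g ∈ Φ.u1 i → g ∈ Φ.subM by
    intro g hg
    have hg' : g ∈ Φ.u1 0 := ⟨τ.uT_zero (K := K) ▸ hg.2.1, hg.2.2⟩
    exact hmain τ.norb 0 (Nat.zero_add _) g hg.1 hg'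
  intro n
  induction n with
  | zero =>
    intro i hi g _ hg
    have := τ.uT_anti (K := K) (show τ.norb ≤ i by omega) hg.1
    rw [τ.uT_norb, Subgroup.mem_bot] at this
    rw [this]; exact one_mem _
  | succ n ih =>
    intro i hi g hgH hg
    set I : Fin τ.norb := ⟨i, by omega⟩
    obtain ⟨x, hx, b, hb, rfl⟩ := Φ.exists_split_u1 I hg
    suffices hfx : Φ.f x = x by
      have hA := Φ.oX_mem_subM hθ (τ.rep I) hfx
      refine mul_mem hA (ih (i + 1) (by omega) b ?_ hb)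
      have := mul_mem (inv_mem (hM hA)) hgH
      rwa [inv_mul_cancel_left] at this
    rcases lt_trichotomy i S.pS with hlt | heq | hgt
    · by_cases hlong : τ.σR (τ.rep I) = τ.rep I
      · exact hx hlong
      obtain ⟨j, p, z, hip, hz, hpair, htail, hE⟩ := τ.exists_step hS (i := I) hlt hlong
      set A := Φ.oX (τ.rep I) x
      set B := Φ.oX (τ.rep j) 1
      have hB : B ∈ Φ.subM := Φ.oX_mem_subM hθ _ (map_one _)
      have hApos : A ∈ D.posUnipotent K := Φ.oX_mem_pos (τ.rep_pos I) x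
      obtain ⟨h1, h2⟩ := Φ.κ_comm_oX hz (τ.rep_pos I) (τ.rep_pos j) hpair x
      have hbB : b * B * b⁻¹ * B⁻¹ ∈ τ.uT K ((p : ℕ) + 1) :=
        τ.comm_rootGen_mem (S := τ.tailSet (i + 1)) (T := {a | a ∈ τ.orb (τ.rep j)})
          (fun a ha => ha.1) (fun a ha => τ.orb_pos (τ.rep_pos j) ha)
          (fun a ha g hg => htail a ha.1 ha.2 g hg) hb.1 (Φ.oX_mem_rootGen _ _)
      set c := A * b * B * (A * b)⁻¹ * B⁻¹ with hcdef
      have hc : c = A * (b * B * b⁻¹ * B⁻¹) * A⁻¹ * (A * B * A⁻¹ * B⁻¹) := by rw [hcdef]; group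
      have hcT : c ∈ τ.uT K p := by
        rw [hc]; exact mul_mem (τ.conj_uT hApos (τ.uT_anti (Nat.le_succ _) hbB)) h1
      have hcH : c ∈ H :=
        mul_mem (mul_mem (mul_mem hgH (hM hB)) (inv_mem hgH)) (inv_mem (hM hB))
      have hcM : c ∈ Φ.subM :=
        ih (i + 1) (by omega) c hcH ⟨τ.uT_anti hip hcT, Φ.tG_le_fix (hHG hcH)⟩
      have h3 : τ.κ p z c = ∑ l ∈ Finset.range (τ.osize (τ.rep I)),
          ((τ.cfg.stepE (τ.rep I) (τ.rep j) z).getD l 0 : K) * Φ.f^[l] x := by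
        rw [hc, τ.κ_mul hz (τ.conj_uT hApos (τ.uT_anti (Nat.le_succ _) hbB)) h1,
          τ.κ_conj hz hApos (τ.uT_anti (Nat.le_succ _) hbB), τ.κ_tail hz hbB, zero_add, h2]
      have hk : τ.osize (τ.rep I) = τ.cfg.k := by rw [τ.osize_eq, if_neg hlong]
      refine Φ.fixed_of_goodE hE ?_
      rw [← hk, ← h3, ← Φ.κ_fE hz hcT, (Φ.mem_subM.1 hcM).2]
    · subst heq
      refine hrs x ?_
      have hb' : b ∈ Φ.subM := Φ.u1_le_subM_of_gt hθ hS (Nat.lt_succ_self S.pS) hb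
      have := mul_mem hgH (inv_mem (hM hb'))
      rwa [mul_inv_cancel_right] at this
    · exact hx (τ.σR_rep_of_gt hS hgt)

end FieldTwist

end CfsgLib.GraphTwist
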