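import Cfsg.Agent.GraphTwistSub.Field

/-!
# Words in the orbit reflections and the fixed points of the field map
-/

set_option autoImplicit false
set_option maxHeartbeats 400000

namespace CfsgLib.GraphTwist

open Cfsg.Lie CfsgLib.Chevalley CfsgLib.Twisted
open scoped MatrixGroups

namespace Setup

variable {D : ChevalleyDatum} (τ : Setup D)

/-- The permutation of a word in the orbits. -/
def wP (w : List (Fin τ.cfg.m)) : Equiv.Perm (Root D) := (w.map τ.wR).prod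

theorem wP_val (w : List (Fin τ.cfg.m)) (r : Root D) :
    (τ.wP w r : ℕ) = τ.cfg.wW (w.map Fin.val) r := by
  induction w with
  | nil => rfl
  | cons o w ih =>
    rw [wP, List.map_cons, List.prod_cons, Equiv.Perm.mul_apply, wR_val]
    exact congrArg (τ.cfg.wO o) ih

theorem wP_reverse (w : List (Fin τ.cfg.m)) : τ.wP w.reverse = (τ.wP w)⁻¹ := by
  induction w with
  | nil => simp [wP]
  | cons o w ih =>
    simp only [wP, List.reverse_cons, List.map_append, List.prod_append, List.map_cons,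
      List.map_nil, List.prod_cons, List.prod_nil, mul_one, mul_inv_rev, τ.wR_inv] at ih ⊢
    rw [ih]

end Setup

namespace FieldTwist

variable {D : ChevalleyDatum} {τ : Setup D} {K : Type*} [Field K] (Φ : FieldTwist τ K)

/-- The product of the orbit reflections of a word. -/
def nW (w : List (Fin τ.cfg.m)) : GL D.Idx K := (w.map Φ.nO).prod

theorem monBy_nW (w : List (Fin τ.cfg.m)) : MonBy τ.good (Φ.nW w) (τ.wP w) := by
  induction w with
  | nil => exact MonBy.one τ.good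
  | cons o w ih =>
    rw [nW, Setup.wP, List.map_cons, List.prod_cons, List.map_cons, List.prod_cons]
    exact (Φ.monBy_nO o).mul ih

theorem nW_mem_M₀ (w : List (Fin τ.cfg.m)) : Φ.nW w ∈ Φ.M₀ :=
  Subgroup.list_prod_mem _ fun x hx => by
    obtain ⟨o, -, rfl⟩ := List.mem_map.1 hx
    exact Φ.nO_mem_M₀ o

theorem nW_mem_subM (w : List (Fin τ.cfg.m)) : Φ.nW w ∈ Φ.subM :=
  Subgroup.list_prod_mem _ fun x hx => by
    obtain ⟨o, -, rfl⟩ := List.mem_map.1 hx
    exact Φ.nO_mem_subM o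

theorem nW_mem_fix (w : List (Fin τ.cfg.m)) : Φ.nW w ∈ Φ.fix := Φ.M₀_le_fix (Φ.nW_mem_M₀ w)

theorem subM_le_fix : Φ.subM ≤ Φ.fix := inf_le_left.trans Φ.tG_le_fix

theorem exists_sgn (r : Root D) : τ.cfg.S.sgn r = 1 ∨ τ.cfg.S.sgn r = -1 :=
  Int.eq_one_or_neg_one_of_mul_eq_one (τ.valid.ok.root r.2).2.2.2.2.1

/-- The twist of a parameter is, up to sign, a power of the field map. -/
theorem exists_tw_sign (j : ℕ) (r : Root D) :
    ∃ e : K, (e = 1 ∨ e = -1) ∧ ∀ t, Φ.tw j r t = e * Φ.f^[j] t := by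
  induction j with
  | zero => exact ⟨1, Or.inl rfl, fun t => (one_mul t).symm⟩
  | succ j ih =>
    obtain ⟨e, he, h⟩ := ih
    refine ⟨(τ.cfg.S.sgn ((τ.σR ^ j) r) : K) * Φ.f e, ?_, fun t => ?_⟩
    · rcases exists_sgn (τ := τ) ((τ.σR ^ j) r) with s | s <;> rcases he with rfl | rfl <;>
        simp [s]
    · rw [tw, h, map_mul, Function.iterate_succ_apply', mul_assoc]

theorem adm_shift (j : ℕ) {r : Root D} {t : K} (h : Φ.Adm r t) :
    Φ.Adm ((τ.σR ^ j) r) (Φ.tw j r t) := by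
  intro hfix
  have hr : τ.σR r = r := by
    refine (τ.σR ^ j).injective ?_
    rw [← Equiv.Perm.mul_apply, ← pow_succ, pow_succ', Equiv.Perm.mul_apply, hfix]
  have e : ∀ i, Φ.tw i r t = t := by
    intro i
    induction i with
    | zero => rfl
    | succ i ih =>
      rw [tw, ih, τ.σR_pow_fixed hr, (τ.valid.root' r.2).2.2.2.2.1 (by rw [← τ.σR_val, hr]),
        Int.cast_one, one_mul, h hr]
  rw [e, h hr]

variable [Finite K] (hθ : τ.Faithful)
include hθ

theorem oX_injective' (r : Root D) {s t : K} (hs : Φ.Adm r s) (ht : Φ.Adm r t)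
    (h : Φ.oX r s = Φ.oX r t) : s = t := by
  by_cases hr : half D ≤ (r : ℕ)
  · exact Φ.oX_injective hr h
  obtain ⟨n, hn, π, hnπ, hπ, -⟩ := Φ.exists_flip hθ
  obtain ⟨c, hc⟩ := Φ.conj_oX hnπ (Φ.M₀_le_fix hn) r
  have h1 := congrArg (fun g => n * g * n⁻¹) h
  simp only [(hc s hs).2, (hc t ht).2] at h1
  have hpos : half D ≤ (π r : ℕ) := by
    by_contra hh
    exact hr ((hπ r).2 (not_le.1 hh))
  exact mul_left_cancel₀ c.ne_zero (Φ.oX_injective hpos h1)

/-- A rational monomial element moves orbit elements by fixed scalars. -/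
theorem exists_conj_subM {g : GL D.Idx K} (hg : g ∈ Φ.subM) {π : Equiv.Perm (Root D)}
    (hπ : MonBy τ.good g π) (r : Root D) :
    ∃ c : K, Φ.f c = c ∧ c ≠ 0 ∧ ∀ t, Φ.Adm r t →
      Φ.Adm (π r) (c * t) ∧ g * Φ.oX r t * g⁻¹ = Φ.oX (π r) (c * t) := by
  obtain ⟨c, hc⟩ := Φ.conj_oX hπ (Φ.subM_le_fix hg) r
  refine ⟨c, ?_, c.ne_zero, hc⟩
  obtain ⟨hA, e⟩ := hc 1 (Φ.adm_one r)
  rw [mul_one] at hA e
  have h1 := congrArg Φ.fE e
  rw [map_mul, map_mul, map_inv, (Φ.mem_subM.1 hg).2, Φ.fE_oX_fixed r (map_one _), e, fE_oX] at h1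
  exact Φ.oX_injective' hθ (π r) hA.map hA h1.symm

/-- Orbit elements transported by a rational monomial element. -/
theorem exists_transport {g : GL D.Idx K} (hg : g ∈ Φ.subM) {π : Equiv.Perm (Root D)}
    (hπ : MonBy τ.good g π) {r r' : Root D} (hr : r' ∈ τ.orb (π r)) :
    ∃ (j : ℕ) (c : K), Φ.f c = c ∧ c ≠ 0 ∧ ∀ t, Φ.Adm r t →
      Φ.Adm r' (c * Φ.f^[j] t) ∧ g * Φ.oX r t * g⁻¹ = Φ.oX r' (c * Φ.f^[j] t) := by
  obtain ⟨j, rfl⟩ := τ.mem_orb_iff.1 hr
  obtain ⟨c, hc, hc0, h⟩ := Φ.exists_conj_subM hθ hg hπ r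
  obtain ⟨e, he, htw⟩ := Φ.exists_tw_sign j (π r)
  have hef : Φ.f e = e := by rcases he with rfl | rfl <;> simp
  have he0 : e ≠ 0 := by rcases he with rfl | rfl <;> simp
  refine ⟨j, e * c, by rw [map_mul, hef, hc], mul_ne_zero he0 hc0, fun t ht => ?_⟩
  obtain ⟨hA, e'⟩ := h t ht
  have hkey : Φ.tw j (π r) (c * t) = e * c * Φ.f^[j] t := by
    rw [htw, iterate_map_mul, Function.iterate_fixed hc, mul_assoc]
  rw [← hkey]
  exact ⟨Φ.adm_shift j hA, e'.trans (Φ.oX_shift j hA).symm⟩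

end FieldTwist

end CfsgLib.GraphTwist
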